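/-
Parameters of long root elements in overgroups of a unitary subfield group, dimension at least four.
-/
import Cfsg.Agent.Lib.ClassicalMax.UnitSubfield
import Cfsg.Agent.Lib.ClassicalMax.UnitFour
import Cfsg.Agent.Lib.ClassicalMax.UnitOrthSubfield
set_option autoImplicit false
set_option linter.unusedSectionVars false

namespace CfsgLib.ClassicalMax.UnitFour4

open Matrix Cfsg.Geo CfsgLib.ClassicalMax CfsgLib.ClassicalMax.LinSub
open CfsgLib.ClassicalMax.Unit CfsgLib.ClassicalMax.Unit.Sub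

variable {ι : Type} [Fintype ι] [DecidableEq ι] {F : Type*} [Field F] [Fintype F] [DecidableEq F]
  {F₀ : Subfield F} {σ : F ≃+* F} {f : (ι → F) → (ι → F) → F} {σ₀ : F₀ ≃+* F₀}
  {B : (ι → F₀) → (ι → F₀) → F₀}

/-- The standing hypotheses. -/
structure Hyp (R : Rat σ f σ₀ B) (M : Subgroup (GL ι F)) (τ : F₀) : Prop where
  hM : Contains R M
  hMi : M ≤ isoOf f
  hn : 4 ≤ Fintype.card ι
  hr : (Module.finrank F₀ F).Prime
  hr2 : 2 < Module.finrank F₀ F
  hτ0 : τ ≠ 0
  hτ : σ₀ τ = -τ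

section field

variable (R : Rat σ f σ₀ B) (hr : (Module.finrank F₀ F).Prime) (hr2 : 2 < Module.finrank F₀ F)
include R hr hr2

lemma mem_of_quad {z : F} {a b : F₀} (h : z * z = a * z + b) : z ∈ F₀ := by
  haveI := Fintype.ofFinite F₀
  haveI : IsSimpleOrder (Subalgebra F₀ F) := Subalgebra.isSimpleOrder_of_finrank_prime _ _ hr
  by_contra hz
  let K : Subalgebra F₀ F :=
    { carrier := {w | ∃ x y : F₀, w = x + y * z}
      mul_mem' := by
        rintro _ _ ⟨x, y, rfl⟩ ⟨x', y', rfl⟩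
        exact ⟨x * x' + y * y' * b, x * y' + y * x' + y * y' * a, by
          push_cast; linear_combination (y : F) * y' * h⟩
      add_mem' := by
        rintro _ _ ⟨x, y, rfl⟩ ⟨x', y', rfl⟩
        exact ⟨x + x', y + y', by push_cast; ring⟩
      algebraMap_mem' := fun c => ⟨c, 0, by
        rw [show algebraMap F₀ F c = (c : F) from rfl]; simp⟩ }
  rcases IsSimpleOrder.eq_bot_or_eq_top K with hK | hK
  · have hzK : z ∈ K := ⟨0, 1, by simp⟩
    rw [hK, Algebra.mem_bot] at hzK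
    obtain ⟨c, hc⟩ := hzK
    exact hz (hc ▸ c.2)
  · have hs : Function.Surjective fun p : F₀ × F₀ => (p.1 : F) + p.2 * z := fun w => by
      obtain ⟨x, y, e⟩ : w ∈ K := hK ▸ Algebra.mem_top
      exact ⟨(x, y), e.symm⟩
    have h1 := Fintype.card_le_of_surjective _ hs
    rw [Fintype.card_prod, Module.card_eq_pow_finrank (K := F₀) (V := F), ← pow_two] at h1
    exact absurd ((Nat.pow_le_pow_iff_right Fintype.one_lt_card).1 h1) (by omega)

lemma mem_of_trace_norm {z : F} (h1 : z + σ z ∈ F₀) (h2 : z * σ z ∈ F₀) : z ∈ F₀ :=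
  mem_of_quad R hr hr2 (a := ⟨_, h1⟩) (b := -⟨_, h2⟩) (by push_cast; ring)

omit hr hr2 in
lemma exists_moved : ∃ ω : F₀, σ (ω : F) - ω ≠ 0 := by
  obtain ⟨ω, hω⟩ : ∃ ω : F₀, σ₀ ω ≠ ω := by
    by_contra h
    push Not at h
    exact R.hB.ne_refl (RingEquiv.ext h)
  exact ⟨ω, by rw [← R.coe_σ]; exact sub_ne_zero.2 fun e => hω (Subtype.ext e)⟩

omit hr hr2 in
lemma mem_of_traces {z : F} (h : ∀ c : F₀, (c : F) * z + σ ((c : F) * z) ∈ F₀) : z ∈ F₀ := by
  obtain ⟨ω, hω⟩ := exists_moved R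
  have h1 := h 1
  rw [Subfield.coe_one, one_mul] at h1
  have hσω : σ (ω : F) ∈ F₀ := R.coe_σ ω ▸ (σ₀ ω).2
  have h2 := F₀.sub_mem (h ω) (F₀.mul_mem hσω h1)
  rw [map_mul, show (ω : F) * z + σ ω * σ z - σ ω * (z + σ z) = ((ω : F) - σ ω) * z by ring] at h2
  have h3 := F₀.div_mem h2 (F₀.sub_mem ω.2 hσω)
  rwa [mul_div_cancel_left₀ _ (by rw [← neg_sub]; exact neg_ne_zero.2 hω)] at h3

omit hr hr2 in
lemma exists_decomp (z : F) : ∃ (ω : F₀) (x y : F), σ x = x ∧ σ y = y ∧ z = x + (ω : F) * y := by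
  obtain ⟨ω, hω⟩ := exists_moved R
  set y := (σ z - z) / (σ (ω : F) - ω) with hy
  have hyσ : σ y = y := by
    rw [hy, map_div₀, map_sub, map_sub, R.hf.involutive, R.hf.involutive, ← neg_sub (σ z) z,
      ← neg_sub (σ (ω : F)) (ω : F), neg_div_neg_eq]
  refine ⟨ω, z - ω * y, y, ?_, hyσ, by ring⟩
  rw [map_sub, map_mul, hyσ, hy]
  field_simp
  ring

/-- A ring of fixed elements between the two fixed fields is one of them. -/
lemma fixed_full (X : Set F) (hX : ∀ x ∈ X, σ x = x) (h0 : ∀ c : F₀, σ (c : F) = c → (c : F) ∈ X)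
    (hadd : ∀ x ∈ X, ∀ y ∈ X, x + y ∈ X) (hmul : ∀ x ∈ X, ∀ y ∈ X, x * y ∈ X) {x₀ : F}
    (hx₀ : x₀ ∈ X) (hx₀' : x₀ ∉ F₀) {z : F} (hz : σ z = z) : z ∈ X := by
  haveI : IsSimpleOrder (Subalgebra F₀ F) := Subalgebra.isSimpleOrder_of_finrank_prime _ _ hr
  obtain ⟨ω, hω⟩ := exists_moved R
  have hσω : σ (ω : F) ∈ F₀ := R.coe_σ ω ▸ (σ₀ ω).2
  have hs : σ ((ω : F) + σ ω) = (ω : F) + σ ω := by rw [map_add, R.hf.involutive, add_comm]
  have hp : σ (-((ω : F) * σ ω)) = -((ω : F) * σ ω) := by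
    rw [map_neg, map_mul, R.hf.involutive, mul_comm]
  have hsX : (ω : F) + σ ω ∈ X := h0 ⟨_, F₀.add_mem ω.2 hσω⟩ hs
  have hpX : -((ω : F) * σ ω) ∈ X := h0 ⟨_, F₀.neg_mem (F₀.mul_mem ω.2 hσω)⟩ hp
  have h0X : (0 : F) ∈ X := by simpa using h0 0 (by simp)
  let K : Subalgebra F₀ F :=
    { carrier := {w | ∃ x ∈ X, ∃ y ∈ X, w = x + (ω : F) * y}
      mul_mem' := by
        rintro _ _ ⟨x, hx, y, hy, rfl⟩ ⟨x', hx', y', hy', rfl⟩
        exact ⟨x * x' + y * y' * -((ω : F) * σ ω), hadd _ (hmul _ hx _ hx') _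
          (hmul _ (hmul _ hy _ hy') _ hpX), x * y' + y * x' + y * y' * ((ω : F) + σ ω),
          hadd _ (hadd _ (hmul _ hx _ hy') _ (hmul _ hy _ hx')) _ (hmul _ (hmul _ hy _ hy') _ hsX),
          by ring⟩
      add_mem' := by
        rintro _ _ ⟨x, hx, y, hy, rfl⟩ ⟨x', hx', y', hy', rfl⟩
        exact ⟨_, hadd _ hx _ hx', _, hadd _ hy _ hy', by ring⟩
      algebraMap_mem' := fun c => by
        obtain ⟨_, x, y, hx, hy, e⟩ : ∃ (_ : Unit) (x y : F), σ x = x ∧ σ y = y ∧
            (c : F) = x + (ω : F) * y := by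
          set y := (σ (c : F) - c) / (σ (ω : F) - ω) with hy
          have hyσ : σ y = y := by
            rw [hy, map_div₀, map_sub, map_sub, R.hf.involutive, R.hf.involutive,
              ← neg_sub (σ (c : F)) (c : F), ← neg_sub (σ (ω : F)) (ω : F), neg_div_neg_eq]
          refine ⟨(), c - ω * y, y, ?_, hyσ, by ring⟩
          rw [map_sub, map_mul, hyσ, hy]
          field_simp
          ring
        have hσc : σ (c : F) ∈ F₀ := R.coe_σ c ▸ (σ₀ c).2
        have hyF : y ∈ F₀ := by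
          have : y = (σ (c : F) - c) / (σ (ω : F) - ω) := by
            rw [eq_div_iff hω, e, map_add, map_mul, hx, hy]; ring
          rw [this]
          exact F₀.div_mem (F₀.sub_mem hσc c.2) (F₀.sub_mem hσω ω.2)
        have hxF : x ∈ F₀ := by
          rw [show x = (c : F) - ω * y by rw [e]; ring]
          exact F₀.sub_mem c.2 (F₀.mul_mem ω.2 hyF)
        exact ⟨x, h0 ⟨x, hxF⟩ hx, y, h0 ⟨y, hyF⟩ hy, e⟩ }
  rcases IsSimpleOrder.eq_bot_or_eq_top K with hK | hK
  · have hxK : x₀ ∈ K := ⟨x₀, hx₀, 0, h0X, by ring⟩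
    rw [hK, Algebra.mem_bot] at hxK
    obtain ⟨c, hc⟩ := hxK
    exact absurd (hc ▸ c.2) hx₀'
  · obtain ⟨x, hx, y, hy, e⟩ : z ∈ K := hK ▸ Algebra.mem_top
    have h := hz
    rw [e, map_add, map_mul, hX x hx, hX y hy] at h
    have : (σ (ω : F) - ω) * y = 0 := by linear_combination h
    rw [e, (mul_eq_zero.1 this).resolve_left hω, mul_zero, add_zero]
    exact hx

end field

/-! ### Siegel elements of a totally isotropic line -/

/-- The Siegel element with parameters `x`, `b`, `y` at the line through `p`, `q`. -/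
def sg (hf : IsUnitaryForm σ f) (p q : ι → F) (x b y : F) : GL ι F :=
  uTv hf p x * ush hf p q b * uTv hf q y

lemma ush_self (hf : IsUnitaryForm σ f) {p : ι → F} (hp : f p p = 0) (e : F) :
    ush hf p p e = uTv hf p (e - σ e) := by
  refine gl_ext_mulVec fun z => ?_
  rw [ush_mulVec hf hp hp, uTv_mulVec hf hp]
  module

variable {p q : ι → F}

lemma sg_mulVec (hf : IsUnitaryForm σ f) (hp : f p p = 0) (hq : f q q = 0) (hpq : f p q = 0)
    (x b y : F) (z : ι → F) : (sg hf p q x b y : Matrix ι ι F) *ᵥ z =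
      z + (x * f z p - σ b * f z q) • p + (b * f z p + y * f z q) • q := by
  simp only [sg, gl_mulVec_mul, uTv_mulVec hf hq, ush_mulVec hf hp hpq, uTv_mulVec hf hp,
    sub_left hf, hf.add_left, hf.smul_left, hp, hq, hpq, eq_zero_comm hf hpq]
  module

lemma sg_mem_isoOf (hf : IsUnitaryForm σ f) (hp : f p p = 0) (hq : f q q = 0) (hpq : f p q = 0)
    {x b y : F} (hx : σ x = -x) (hy : σ y = -y) : sg hf p q x b y ∈ isoOf f :=
  mul_mem (mul_mem (uTv_mem_isoOf hf hp hx) (ush_mem_isoOf hf hp hq hpq b)) (uTv_mem_isoOf hf hq hy)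

lemma sg_mul (hf : IsUnitaryForm σ f) (hp : f p p = 0) (hq : f q q = 0) (hpq : f p q = 0)
    (x b y x' b' y' : F) :
    sg hf p q x b y * sg hf p q x' b' y' = sg hf p q (x + x') (b + b') (y + y') := by
  refine gl_ext_mulVec fun z => ?_
  simp only [gl_mulVec_mul, sg_mulVec hf hp hq hpq, hf.add_left, hf.smul_left, hp, hq, hpq,
    eq_zero_comm hf hpq, map_add]
  module

lemma sg_zero (hf : IsUnitaryForm σ f) (hp : f p p = 0) (hq : f q q = 0) (hpq : f p q = 0) :
    sg hf p q 0 0 0 = 1 := by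
  refine gl_ext_mulVec fun z => ?_
  rw [sg_mulVec hf hp hq hpq]
  simp

lemma sg_inv (hf : IsUnitaryForm σ f) (hp : f p p = 0) (hq : f q q = 0) (hpq : f p q = 0)
    (x b y : F) : (sg hf p q x b y)⁻¹ = sg hf p q (-x) (-b) (-y) := by
  refine inv_eq_of_mul_eq_one_right ?_
  rw [sg_mul hf hp hq hpq, add_neg_cancel, add_neg_cancel, add_neg_cancel, sg_zero hf hp hq hpq]

lemma sg_conj (hf : IsUnitaryForm σ f) (hp : f p p = 0) (hq : f q q = 0) (hpq : f p q = 0)
    {g : GL ι F} (hg : g ∈ isoOf f) (x b y : F) : g * sg hf p q x b y * g⁻¹ =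
      sg hf ((g : Matrix ι ι F) *ᵥ p) ((g : Matrix ι ι F) *ᵥ q) x b y := by
  rw [sg, sg, ← uTv_conj hf hg hp, ← ush_conj hf hg hp hpq, ← uTv_conj hf hg hq]
  group

lemma sg_long_left (hf : IsUnitaryForm σ f) (hp : f p p = 0) (hq : f q q = 0) (hpq : f p q = 0)
    (x : F) : sg hf p q x 0 0 = uTv hf p x := by
  refine gl_ext_mulVec fun z => ?_
  rw [sg_mulVec hf hp hq hpq, uTv_mulVec hf hp, map_zero]
  module

lemma sg_long_right (hf : IsUnitaryForm σ f) (hp : f p p = 0) (hq : f q q = 0) (hpq : f p q = 0)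
    (y : F) : sg hf p q 0 0 y = uTv hf q y := by
  refine gl_ext_mulVec fun z => ?_
  rw [sg_mulVec hf hp hq hpq, uTv_mulVec hf hq, map_zero]
  module

lemma sg_short (hf : IsUnitaryForm σ f) (hp : f p p = 0) (hq : f q q = 0) (hpq : f p q = 0)
    (b : F) : sg hf p q 0 b 0 = ush hf p q b := by
  refine gl_ext_mulVec fun z => ?_
  rw [sg_mulVec hf hp hq hpq, ush_mulVec hf hp hpq]
  module

lemma sg_swap (hf : IsUnitaryForm σ f) (hp : f p p = 0) (hq : f q q = 0) (hpq : f p q = 0)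
    (x b y : F) : sg hf p q x b y = sg hf q p y (-σ b) x := by
  refine gl_ext_mulVec fun z => ?_
  rw [sg_mulVec hf hp hq hpq, sg_mulVec hf hq hp (eq_zero_comm hf hpq), map_neg, hf.involutive]
  module

lemma sg_shift (hf : IsUnitaryForm σ f) (hp : f p p = 0) (hq : f q q = 0) (hpq : f p q = 0)
    {x b y : F} (c : F) (hy : σ y = -y) : sg hf p (q + c • p) x b y =
      sg hf p q (x + (c * b - σ (c * b)) + y * (c * σ c)) (b + y * σ c) y := by
  have h1 : f (q + c • p) (q + c • p) = 0 := by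
    simp [hf.add_left, Unit.add_right hf, hf.smul_left, Unit.smul_right hf, hp, hq, hpq,
      eq_zero_comm hf hpq]
  have h2 : f p (q + c • p) = 0 := by simp [Unit.add_right hf, Unit.smul_right hf, hp, hpq]
  refine gl_ext_mulVec fun z => ?_
  rw [sg_mulVec hf hp h1 h2, sg_mulVec hf hp hq hpq, Unit.add_right hf, Unit.smul_right hf,
    map_add, map_mul, map_mul, hy, hf.involutive]
  module

lemma uTv_add_eq_sg (hf : IsUnitaryForm σ f) (hp : f p p = 0) (hq : f q q = 0) (hpq : f p q = 0)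
    (α β : F) {c : F} (hc : σ c = -c) : uTv hf (α • p + β • q) c =
      sg hf p q (c * (α * σ α)) (c * (σ α * β)) (c * (β * σ β)) := by
  have hs : f (α • p + β • q) (α • p + β • q) = 0 := by
    simp [hf.add_left, Unit.add_right hf, hf.smul_left, Unit.smul_right hf, hp, hq, hpq,
      eq_zero_comm hf hpq]
  refine gl_ext_mulVec fun z => ?_
  rw [sg_mulVec hf hp hq hpq, uTv_mulVec hf hs, Unit.add_right hf, Unit.smul_right hf,
    Unit.smul_right hf, map_mul, map_mul, hc, hf.involutive]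
  module

/-! ### Parameters -/

variable {R : Rat σ f σ₀ B} {M : Subgroup (GL ι F)} {τ : F₀}

/-- The parameter `x` occurs on every rational isotropic vector. -/
def Par (R : Rat σ f σ₀ B) (M : Subgroup (GL ι F)) (τ : F₀) (x : F) : Prop :=
  σ x = x ∧ ∀ v : ι → F₀, B v v = 0 → uTv R.hf (cv v) ((τ : F) * x) ∈ M

variable (H : Hyp R M τ)
include H

lemma στ : σ (τ : F) = -(τ : F) := by rw [← R.coe_σ, H.hτ]; rfl

lemma τF : (τ : F) ≠ 0 := fun e => H.hτ0 (Subtype.ext (by simpa using e))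

lemma anti {x : F} (hx : σ x = x) : σ ((τ : F) * x) = -((τ : F) * x) := by
  rw [map_mul, στ H, hx, neg_mul]

lemma step {v w : ι → F₀} (hv : B v v = 0) (hw : B w w = 0) (hvw : B v w ≠ 0) {x : F}
    (h : uTv R.hf (cv v) ((τ : F) * x) ∈ M) {a : F₀} (ha : σ₀ a = a) :
    uTv R.hf (cv w) ((τ : F) * (x * ((τ : F) * a * B v w * σ ((τ : F) * a * B v w)))) ∈ M := by
  have hf := R.hf
  have ov := R.orth hv
  have ow := R.orth hw
  by_cases ha0 : a = 0
  · subst ha0
    have e : uTv hf (cv w) (0 : F) = 1 := gl_ext_mulVec fun z => by rw [uTv_mulVec hf ow]; simp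
    simp [e, M.one_mem]
  set c : F₀ := τ * a
  have hc : σ₀ c = -c := by rw [map_mul, H.hτ, ha, neg_mul]
  have hc0 : c ≠ 0 := mul_ne_zero H.hτ0 ha0
  have hwv : B w v ≠ 0 := ne_zero_comm R.hB hvw
  set d : F₀ := -(c * B v w * B w v)⁻¹ with hd
  have hd' : σ₀ d = -d := by
    rw [hd, map_neg, map_inv₀, map_mul, map_mul, hc, ← R.hB.herm, ← R.hB.herm, neg_neg,
      show -c * B w v * B v w = -(c * B v w * B w v) by ring, inv_neg, neg_neg]
  have ht₁ := H.hM.tv w hw c hc
  have ht₂ := H.hM.tv v hv d hd'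
  set t := uTv hf (cv v) (d : F) * uTv hf (cv w) (c : F) with ht
  have htM : t ∈ M := M.mul_mem ht₂ ht₁
  set ε : F := (c : F) * (B v w : F) with hε
  have htv : (t : Matrix ι ι F) *ᵥ cv v = ε • cv w := by
    rw [ht, gl_mulVec_mul, uTv_mulVec hf ow, ← R.coe_B, ← hε, uTv_mulVec hf ov, hf.add_left,
      hf.smul_left, ov, zero_add, ← R.coe_B]
    have e : (d : F) * (ε * (B w v : F)) = -1 := by
      rw [hd, hε]
      push_cast
      rw [neg_mul, inv_mul_cancel₀]
      have h3 : c * B v w * B w v ≠ 0 := mul_ne_zero (mul_ne_zero hc0 hvw) hwv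
      exact fun e => h3 (Subtype.ext (by simpa using e))
    rw [e]
    module
  have h1 := M.mul_mem (M.mul_mem htM h) (M.inv_mem htM)
  rw [uTv_conj hf (H.hMi htM) ov, htv, uTv_smul hf ow] at h1
  convert h1 using 2
  simp only [hε, c, Subfield.coe_mul]
  ring

lemma par_of_one {v : ι → F₀} (hv : B v v = 0) (hv0 : v ≠ 0) {x : F} (hx : σ x = x)
    (h : uTv R.hf (cv v) ((τ : F) * x) ∈ M) {y : F₀} (hy : σ₀ y = y) :
    Par R M τ (x * (y : F)) := by
  have hf := R.hf
  haveI := Fintype.ofFinite F₀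
  have hn := H.hn
  have one : ∀ {v w : ι → F₀}, B v v = 0 → B w w = 0 → B v w ≠ 0 →
      uTv hf (cv v) ((τ : F) * x) ∈ M → ∀ y : F₀, σ₀ y = y →
      uTv hf (cv w) ((τ : F) * (x * (y : F))) ∈ M := by
    intro v w hv hw hvw h
    set Kc : F₀ := τ * B v w * σ₀ (τ * B v w) with hK
    have hK0 : Kc ≠ 0 := mul_ne_zero (mul_ne_zero H.hτ0 hvw)
      (fun e => mul_ne_zero H.hτ0 hvw (by simpa using congrArg σ₀.symm e))
    have hKσ : σ₀ Kc = Kc := by rw [hK, map_mul, R.hB.involutive, mul_comm]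
    have sq : ∀ a : F₀, σ₀ a = a → uTv hf (cv w) ((τ : F) * (x * ((a * a * Kc : F₀) : F))) ∈ M :=
      fun a ha => by
        have hs := step H hv hw hvw h ha
        convert hs using 4
        rw [hK]
        push_cast [R.coe_σ]
        have : σ (a : F) = a := by rw [← R.coe_σ, ha]
        simp only [map_mul, this]
        ring
    intro y hy
    have ow := R.orth hw
    by_cases h2 : (2 : F₀) = 0
    · haveI : CharP F₀ 2 := CharTwo.of_one_ne_zero_of_two_eq_zero one_ne_zero h2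
      obtain ⟨a, ha⟩ := (Finite.injective_iff_surjective.1 (frobenius_inj F₀ 2)) (y / Kc)
      rw [frobenius_def] at ha
      have haσ : σ₀ a = a := frobenius_inj F₀ 2 (by
        rw [frobenius_def, frobenius_def, ← map_pow, ha, map_div₀, hy, hKσ])
      have := sq a haσ
      rwa [← sq_eq (a := a), ha, div_mul_cancel₀ _ hK0] at this
    · have hσ2 : σ₀ (2 : F₀) = 2 := map_ofNat σ₀ 2
      set a := (y / Kc + 1) / 2
      set b := (y / Kc - 1) / 2
      have h1 := sq a (by simp only [a, map_div₀, map_add, hy, hKσ, map_one, hσ2])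
      have h2' := sq b (by simp only [b, map_div₀, map_sub, hy, hKσ, map_one, hσ2])
      have := M.mul_mem h1 (M.inv_mem h2')
      rw [uTv_inv_eq hf ow, uTv_mul hf ow] at this
      convert this using 2
      have e : a * a * Kc - b * b * Kc = y := by
        simp only [a, b]
        field_simp
        ring
      rw [← e, Subfield.coe_sub]
      ring
  have hσy : σ (y : F) = y := by rw [← R.coe_σ, hy]
  refine ⟨by rw [map_mul, hx, hσy], fun w hw => ?_⟩
  by_cases hw0 : w = 0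
  · subst hw0
    rw [cv_zero, show uTv hf (0 : ι → F) ((τ : F) * (x * (y : F))) = 1 from gl_ext_mulVec fun z => by
      rw [uTv_mulVec hf (zero_left hf 0)]; simp]
    exact M.one_mem
  have htop : Fintype.card ι + 2 < 2 * Module.finrank F₀ (⊤ : Submodule F₀ (ι → F₀)) := by
    rw [finrank_top, Module.finrank_fintype_fun_eq_card]; omega
  obtain ⟨e₁, he₁⟩ := (R.hB.nondegenerate v hv0).1
  obtain ⟨e₂, he₂⟩ := (R.hB.nondegenerate w hw0).1
  obtain ⟨z, -, hz, hzv, hzw⟩ := exists_isotropic_avoid R.hB htop (formL R.hB v) (formL R.hB w)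
    ⟨e₁, Submodule.mem_top, he₁⟩ ⟨e₂, Submodule.mem_top, he₂⟩
  have h1 := one hv hz (ne_zero_comm R.hB hzv) h 1 (map_one σ₀)
  rw [Subfield.coe_one, mul_one] at h1
  exact one hz hw hzw h1 y hy
where
  sq_eq {a : F₀} : a ^ 2 = a * a := sq a

lemma Par.scale {x : F} (h : Par R M τ x) {y : F₀} (hy : σ₀ y = y) : Par R M τ (x * (y : F)) := by
  haveI := Fintype.ofFinite F₀
  obtain ⟨p, -, hp0, hp⟩ := exists_isotropic_mem R.hB (W := (⊤ : Submodule F₀ (ι → F₀)))
    (by rw [finrank_top, Module.finrank_fintype_fun_eq_card]; have := H.hn; omega)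
  exact par_of_one H hp hp0 h.1 (h.2 p hp) hy

lemma Par.unscale {x : F} {t : F₀} (ht : σ₀ t = t) (ht0 : t ≠ 0) (h : Par R M τ (x * (t : F))) :
    Par R M τ x := by
  have := Par.scale H h (y := t⁻¹) (by rw [map_inv₀, ht])
  rwa [mul_assoc, ← Subfield.coe_mul, mul_inv_cancel₀ ht0, Subfield.coe_one, mul_one] at this

lemma Par.add {x y : F} (hx : Par R M τ x) (hy : Par R M τ y) : Par R M τ (x + y) :=
  ⟨by rw [map_add, hx.1, hy.1], fun v hv => by
    rw [mul_add, ← uTv_mul R.hf (R.orth hv)]; exact M.mul_mem (hx.2 v hv) (hy.2 v hv)⟩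

lemma par_rat (c : F₀) (hc : σ (c : F) = c) : Par R M τ (c : F) :=
  ⟨hc, fun v hv => by
    have := H.hM.tv v hv (τ * c) (by
      rw [map_mul, H.hτ, show σ₀ c = c from Subtype.ext (by rw [R.coe_σ, hc]), neg_mul])
    rwa [Subfield.coe_mul] at this⟩

/-- Short root elements from long ones. -/
lemma sh_of_par {x : F} (hx : Par R M τ x) {v w : ι → F₀} (hv : B v v = 0) (hw : B w w = 0)
    (hvw : B v w = 0) (a : F₀) : ush R.hf (cv v) (cv w) ((τ : F) * x * (a : F)) ∈ M := by
  have hf := R.hf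
  have ov := R.orth hv
  have ow := R.orth hw
  have ovw := R.orth hvw
  have hs : B (v + a • w) (v + a • w) = 0 := by
    simp [R.hB.add_left, Unit.add_right R.hB, R.hB.smul_left, Unit.smul_right R.hB, hv, hw, hvw,
      eq_zero_comm R.hB hvw]
  have h1 := hx.2 _ hs
  rw [cv_add, cv_smul, uTv_add_smul hf ov ow ovw (a : F) (anti H hx.1)] at h1
  have h2 := (Par.scale H hx (y := a * σ₀ a) (by rw [map_mul, R.hB.involutive, mul_comm])).2 w hw
  rw [Subfield.coe_mul, R.coe_σ, ← mul_assoc (τ : F)] at h2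
  have h3 := M.mul_mem (M.mul_mem (M.inv_mem (hx.2 v hv)) h1) (M.inv_mem h2)
  simpa [mul_assoc] using h3

/-- A Siegel element of `M` gives parameters. -/
lemma par_of_sg {p q : ι → F₀} (hp : B p p = 0) (hq : B q q = 0) (hpq : B p q = 0)
    (hli : LinearIndependent F₀ ![p, q]) {x b y : F} (hx : σ x = x) (hy : σ y = y)
    (h : sg R.hf (cv p) (cv q) ((τ : F) * x) b ((τ : F) * y) ∈ M) :
    Par R M τ x ∧ Par R M τ y ∧
      ∀ c : F₀, Par R M τ (((c : F) * b - σ ((c : F) * b)) / (τ : F)) := by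
  have hf := R.hf
  haveI := Fintype.ofFinite F₀
  -- parameters at the left vector after two shifts
  have right : ∀ {p q : ι → F₀}, B p p = 0 → B q q = 0 → B p q = 0 →
      LinearIndependent F₀ ![p, q] → ∀ {x b y : F}, σ y = y →
      sg hf (cv p) (cv q) ((τ : F) * x) b ((τ : F) * y) ∈ M →
      Par R M τ y ∧ ∀ c : F₀, sg hf (cv p) (cv q)
        ((c : F) * b - σ ((c : F) * b) + (τ : F) * y * ((c : F) * σ c)) ((τ : F) * y * σ c) 0 ∈ M := by
    intro p q hp hq hpq hli x b y hy h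
    have op := R.orth hp
    have oq := R.orth hq
    have opq := R.orth hpq
    obtain ⟨q', hq', hqq', hrest⟩ := exists_isotropic_pairing R.hB
      (v := ![q, p]) (LinearIndependent.pair_symm_iff.1 hli) (fun i => by
        fin_cases i
        · exact hq
        · exact hpq)
    have hpq' : B p q' = 0 := hrest 0
    have shift : ∀ (x b y : F), σ y = y → sg hf (cv p) (cv q) x b ((τ : F) * y) ∈ M → ∀ c : F₀,
        sg hf (cv p) (cv q) ((c : F) * b - σ ((c : F) * b) + (τ : F) * y * ((c : F) * σ c))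
          ((τ : F) * y * σ c) 0 ∈ M := by
      intro x b y hy h c
      have hg := H.hM.sh p q' hp hq' hpq' (-σ₀ c)
      have e1 : (ush hf (cv p) (cv q') ((-σ₀ c : F₀) : F) : Matrix ι ι F) *ᵥ cv p = cv p := by
        rw [ush_mulVec hf op (R.orth hpq'), op, R.orth hpq']; simp
      have e2 : (ush hf (cv p) (cv q') ((-σ₀ c : F₀) : F) : Matrix ι ι F) *ᵥ cv q
          = cv q + (c : F) • cv p := by
        rw [ush_mulVec hf op (R.orth hpq'), eq_zero_comm hf opq, mul_zero, zero_smul, add_zero,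
          ← R.coe_B q q', show B q q' = 1 from hqq', Subfield.coe_neg, R.coe_σ, map_neg,
          hf.involutive, Subfield.coe_one]
        module
      have h1 := M.mul_mem (M.mul_mem hg h) (M.inv_mem hg)
      rw [sg_conj hf op oq opq (H.hMi hg), e1, e2, sg_shift hf op oq opq _ (anti H hy)] at h1
      have h2 := M.mul_mem (M.inv_mem h) h1
      rw [sg_inv hf op oq opq, sg_mul hf op oq opq] at h2
      convert h2 using 2 <;> ring
    refine ⟨?_, shift _ b y hy h⟩
    obtain ⟨c, hc⟩ : ∃ c : F₀, c + σ₀ c ≠ 0 := by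
      by_contra hcon
      push Not at hcon
      refine R.hB.ne_refl (RingEquiv.ext fun c => ?_)
      have h1 := hcon 1
      rw [map_one] at h1
      have h2 := hcon c
      show σ₀ c = c
      linear_combination h2 - c * h1
    set D := (c : F) * b - σ ((c : F) * b) + (τ : F) * y * ((c : F) * σ c)
    have h1 : sg hf (cv p) (cv q) D ((τ : F) * y * σ c) ((τ : F) * 0) ∈ M := by
      rw [mul_zero]; exact shift _ b y hy h c
    have h2 := shift _ _ 0 (map_zero σ) h1 1
    rw [mul_zero, zero_mul, zero_mul, Subfield.coe_one, one_mul, add_zero,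
      sg_long_left hf op oq opq] at h2
    set t : F₀ := c + σ₀ c with ht
    have htσ : σ₀ t = t := by rw [ht, map_add, R.hB.involutive, add_comm]
    have h3 : uTv hf (cv p) ((τ : F) * (y * (t : F))) ∈ M := by
      convert h2 using 2
      simp only [map_mul, στ H, hy, hf.involutive, ht, Subfield.coe_add, R.coe_σ]
      ring
    have hty : σ (y * (t : F)) = y * (t : F) := by rw [map_mul, hy, ← R.coe_σ, htσ]
    have h4 := par_of_one H hp (by simpa using hli.ne_zero 0) hty h3 (y := 1) (map_one σ₀)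
    rw [Subfield.coe_one, mul_one] at h4
    exact Par.unscale H htσ hc h4
  have op := R.orth hp
  have oq := R.orth hq
  have opq := R.orth hpq
  have hy' := right hp hq hpq hli hy h
  have hx' := (right hq hp (eq_zero_comm R.hB hpq) (LinearIndependent.pair_symm_iff.1 hli) hx
    (by rwa [← sg_swap hf op oq opq])).1
  refine ⟨hx', hy'.1, fun c => ?_⟩
  have hb : sg hf (cv p) (cv q) ((τ : F) * 0) b ((τ : F) * 0) ∈ M := by
    have h1 := M.mul_mem (M.mul_mem (M.inv_mem (hx'.2 p hp)) h) (M.inv_mem (hy'.1.2 q hq))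
    rw [← sg_long_left hf op oq opq, ← sg_long_right hf op oq opq, sg_inv hf op oq opq,
      sg_inv hf op oq opq, sg_mul hf op oq opq, sg_mul hf op oq opq] at h1
    convert h1 using 2 <;> ring
  have h2 := (right hp hq hpq hli (map_zero σ) hb).2 c
  rw [mul_zero, zero_mul, zero_mul, add_zero, sg_long_left hf op oq opq] at h2
  set m := ((c : F) * b - σ ((c : F) * b)) / (τ : F) with hm
  have hmσ : σ m = m := by
    rw [hm, map_div₀, στ H, map_sub, hf.involutive, ← neg_sub ((c : F) * b), neg_div_neg_eq]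
  have := par_of_one H hp (by simpa using hli.ne_zero 0) hmσ (x := m)
    (by rwa [hm, mul_div_cancel₀ _ (τF H)]) (y := 1) (map_one σ₀)
  rwa [Subfield.coe_one, mul_one] at this

/-- Dual isotropic vectors of a rational isotropic pair. -/
lemma exists_dual {p q : ι → F₀} (hp : B p p = 0) (hq : B q q = 0) (hpq : B p q = 0)
    (hli : LinearIndependent F₀ ![p, q]) : ∃ p' q' : ι → F₀, B p' p' = 0 ∧ B q' q' = 0 ∧
    B p' q' = 0 ∧ B p p' = 1 ∧ B q q' = 1 ∧ B p q' = 0 ∧ B q p' = 0 := by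
  haveI := Fintype.ofFinite F₀
  have hqp' : B q p = 0 := eq_zero_comm R.hB hpq
  obtain ⟨p', hp', hpp', hrest⟩ := exists_isotropic_pairing R.hB (v := ![p, q]) hli (fun i => by
    fin_cases i
    · exact hp
    · exact hqp')
  have hqp2 : B q p' = 0 := hrest 0
  have hp'p : B p' p = 1 := by rw [R.hB.herm, show B p p' = 1 from hpp', map_one]
  have hli3 : LinearIndependent F₀ ![q, p, p'] := by
    rw [Fintype.linearIndependent_iff]
    intro g hg
    simp only [Fin.sum_univ_three, Matrix.cons_val_zero, Matrix.cons_val_one, Matrix.cons_val_two,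
      Matrix.head_cons, Matrix.tail_cons] at hg
    have h2 := congrArg (fun z => B z p) hg
    simp only [R.hB.add_left, R.hB.smul_left, hp, hqp', hp'p, zero_left R.hB, mul_zero, mul_one,
      zero_add] at h2
    rw [h2, zero_smul, add_zero, add_comm] at hg
    have h01 := LinearIndependent.pair_iff.1 hli _ _ hg
    intro i
    fin_cases i
    exacts [h01.2, h01.1, h2]
  obtain ⟨q', hq', hqq', hrest'⟩ := exists_isotropic_pairing R.hB hli3 (fun i => by
    fin_cases i
    · exact hq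
    · exact hpq
    · exact eq_zero_comm R.hB hqp2)
  exact ⟨p', q', hp', hq', hrest' 1, hpp', hqq', hrest' 0, hqp2⟩

/-- A frame of four isotropic vectors. -/
lemma exists_frame : ∃ p q p' q' : ι → F₀, B p p = 0 ∧ B q q = 0 ∧ B p' p' = 0 ∧ B q' q' = 0 ∧
    B p q = 0 ∧ B p' q' = 0 ∧ B p p' = 1 ∧ B q q' = 1 ∧ B p q' = 0 ∧ B q p' = 0 ∧
    LinearIndependent F₀ ![p, q] := by
  haveI := Fintype.ofFinite F₀
  have hn := H.hn
  obtain ⟨p, -, hp0, hp⟩ := exists_isotropic_mem R.hB (W := (⊤ : Submodule F₀ (ι → F₀)))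
    (by rw [finrank_top, Module.finrank_fintype_fun_eq_card]; omega)
  obtain ⟨q, hq, hqo, hqs'⟩ := exists_isotropic_orth R.hB ![p] ![p] (by omega) (by omega)
  have hqs : q ∉ Submodule.span F₀ {p} := by
    rwa [Matrix.range_cons, Matrix.range_empty, Set.union_empty] at hqs'
  have hqp : B q p = 0 := hqo 0
  have hqp' : B q p = 0 := hqp
  have hpq : B p q = 0 := eq_zero_comm R.hB hqp'
  have hli : LinearIndependent F₀ ![p, q] := by
    rw [LinearIndependent.pair_iff' hp0]
    exact fun c e => hqs (Submodule.mem_span_singleton.2 ⟨c, e⟩)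
  obtain ⟨p', q', h1, h2, h3, h4, h5, h6, h7⟩ := exists_dual H hp hq hpq hli
  exact ⟨p, q, p', q', hp, hq, h1, h2, hpq, h3, h4, h5, h6, h7, hli⟩

lemma Par.mul {x y : F} (hx : Par R M τ x) (hy : Par R M τ y) : Par R M τ (x * y) := by
  have hf := R.hf
  obtain ⟨p, q, -, q', hp, hq, -, hq', hpq, -, -, hqq', hpq', -, hli⟩ := exists_frame H
  have op := R.orth hp
  have oq := R.orth hq
  have opq := R.orth hpq
  obtain ⟨ω, hω⟩ := exists_moved R
  have hg := sh_of_par H hy hp hq' hpq' 1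
  rw [Subfield.coe_one, mul_one] at hg
  have e2 : (ush hf (cv p) (cv q') ((τ : F) * y) : Matrix ι ι F) *ᵥ cv q
      = cv q + ((τ : F) * y) • cv p := by
    rw [ush_mulVec hf op (R.orth hpq'), eq_zero_comm hf opq, mul_zero, zero_smul, add_zero,
      ← R.coe_B q q', hqq', anti H hy.1, Subfield.coe_one]
    module
  have h1 := M.mul_mem (M.mul_mem hg (hx.2 q hq)) (M.inv_mem hg)
  set ε := (τ : F) * y with hε
  rw [uTv_conj hf (H.hMi hg) oq, e2,
    show cv q + ε • cv p = ε • cv p + (1 : F) • cv q by rw [one_smul, add_comm],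
    uTv_add_eq_sg hf op oq opq ε 1 (anti H hx.1), map_one, mul_one, mul_one, mul_one,
    mul_assoc (τ : F) x] at h1
  have h2 := (par_of_sg H hp hq hpq hli (x := x * (ε * σ ε))
    (by rw [map_mul, hx.1, map_mul, hf.involutive, mul_comm ε]) hx.1 h1).2.2 ω
  set t : F₀ := -τ * (ω - σ₀ ω) with ht
  have htσ : σ₀ t = t := by
    rw [ht, map_mul, map_neg, H.hτ, map_sub, R.hB.involutive]; ring
  have ht0 : t ≠ 0 := mul_ne_zero (neg_ne_zero.2 H.hτ0) fun e => hω (by
    rw [← R.coe_σ, ← sub_eq_zero.1 (show ω - σ₀ ω = 0 from e), sub_self])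
  refine Par.unscale H htσ ht0 ?_
  convert h2 using 1
  have hτ := τF H
  simp only [ht, hε, Subfield.coe_mul, Subfield.coe_neg, Subfield.coe_sub, R.coe_σ, map_mul,
    map_neg, στ H, hx.1, hy.1, neg_neg]
  field_simp
  ring

/-- One new parameter gives all parameters. -/
lemma par_all {x₀ : F} (hx₀ : Par R M τ x₀) (h : x₀ ∉ F₀) {z : F} (hz : σ z = z) : Par R M τ z :=
  fixed_full R H.hr H.hr2 {x | Par R M τ x} (fun _ hx => hx.1) (par_rat H)
    (fun _ hx _ hy => Par.add H hx hy) (fun _ hx _ hy => Par.mul H hx hy) hx₀ h hz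

/-- A Siegel element outside the subfield gives a new parameter. -/
lemma exists_new {p q : ι → F₀} (hp : B p p = 0) (hq : B q q = 0) (hpq : B p q = 0)
    (hli : LinearIndependent F₀ ![p, q]) {x b y : F} (hx : σ x = x) (hy : σ y = y)
    (h : sg R.hf (cv p) (cv q) ((τ : F) * x) b ((τ : F) * y) ∈ M)
    (hne : ¬ (x ∈ F₀ ∧ b ∈ F₀ ∧ y ∈ F₀)) : ∃ x₀, Par R M τ x₀ ∧ x₀ ∉ F₀ := by
  obtain ⟨h1, h2, h3⟩ := par_of_sg H hp hq hpq hli hx hy h
  by_contra hcon
  push Not at hcon
  refine hne ⟨hcon _ h1, mem_of_traces R fun c => ?_, hcon _ h2⟩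
  have h4 := hcon _ (h3 (τ * c))
  rwa [Subfield.coe_mul, map_mul, map_mul, στ H, show
    (τ : F) * c * b - -(τ : F) * σ c * σ b = (τ : F) * ((c : F) * b + σ c * σ b) by ring,
    mul_div_cancel_left₀ _ (τF H), ← map_mul] at h4

lemma frame_li {p q p' q' : ι → F₀} (hp : B p p = 0) (hq : B q q = 0) (hpq : B p q = 0)
    (hp' : B p' p' = 0) (hq' : B q' q' = 0) (hp'q' : B p' q' = 0) (hpp' : B p p' = 1)
    (hqq' : B q q' = 1) (hpq' : B p q' = 0) (hqp' : B q p' = 0) :
    LinearIndependent F₀ ![p, q, p', q'] := by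
  rw [Fintype.linearIndependent_iff]
  intro g hg
  simp only [Fin.sum_univ_four, Matrix.cons_val] at hg
  have e1 := congrArg (fun z => B z p') hg
  have e2 := congrArg (fun z => B z q') hg
  have e3 := congrArg (fun z => B z p) hg
  have e4 := congrArg (fun z => B z q) hg
  simp [R.hB.add_left, R.hB.smul_left, zero_left R.hB, hp, hq, hp', hq', hpq, hp'q', hpp', hqq',
    hpq', hqp', eq_zero_comm R.hB hpq, eq_zero_comm R.hB hp'q', eq_zero_comm R.hB hpq',
    eq_zero_comm R.hB hqp', show B p' p = 1 by rw [R.hB.herm, hpp', map_one],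
    show B q' q = 1 by rw [R.hB.herm, hqq', map_one]] at e1 e2 e3 e4
  intro i
  fin_cases i <;> assumption

/-- With all parameters every transvection lies in `M`. -/
lemma uSet_all {x₀ : F} (hx₀ : Par R M τ x₀) (h : x₀ ∉ F₀) {u : ι → F} (hu : f u u = 0) :
    u ∈ uSet R.hf M := by
  have hf := R.hf
  refine uSet_of_good R H.hM H.hn (fun b v w hv hw hvw _ => ?_) H.hτ0 H.hτ hu
  obtain ⟨ω, x, y, hx, hy, e⟩ := exists_decomp R (b / (τ : F))
  have h1 := sh_of_par H (par_all H hx₀ h hx) hv hw hvw 1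
  have h2 := sh_of_par H (par_all H hx₀ h hy) hv hw hvw ω
  have h3 := M.mul_mem h1 h2
  rw [ush_add hf (R.orth hv) (R.orth hw) (R.orth hvw), Subfield.coe_one] at h3
  convert h3 using 2
  rw [div_eq_iff (τF H)] at e
  rw [e]
  ring

end CfsgLib.ClassicalMax.UnitFour4
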