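/-
A subgroup of `SL₂` over a finite field with many lower translations and one upper one is big.
-/
import Cfsg.Agent.Lib.PSL2Sub.Transfer
import Cfsg.Agent.Lib.SL2Trace.Orders
import Cfsg.Agent.Lib.RootSub.SL2Model
set_option autoImplicit false

namespace CfsgLib.ClassicalMax.UnitFour4

open Matrix OnePoint CfsgLib.PSL2Sub
open CfsgLib.RootSub (slU slL slU_val slL_val slL_inj slL_add)

variable {k : Type*} [Field k]

/-- Dickson: a large group of lower translations and an upper translation give all translations. -/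
theorem slL_mem_of_large [Finite k] (Γ : Subgroup (SpecialLinearGroup (Fin 2) k))
    (hU : slU 1 ∈ Γ) (V : AddSubgroup k) (hV : ∀ v ∈ V, slL v ∈ Γ) {v₀ : k} (hv₀ : v₀ ∈ V)
    (hv₀' : v₀ ≠ 0) (hcard : 9 < Nat.card V)
    (hgen : ∀ S : Subfield k, (∀ v ∈ V, v / v₀ ∈ S) → S = ⊤) (c : k) : slL c ∈ Γ := by
  classical
  obtain ⟨p, hpF⟩ := CharP.exists k
  haveI : Fact p.Prime := ⟨CharP.char_is_prime k p⟩
  haveI : Finite (PG k) := Finite.of_surjective _ ProjGenLinGroup.mk_surjective
  letI := Fintype.ofFinite k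
  set T : SpecialLinearGroup (Fin 2) k →* PG k := SpecialLinearGroup.toPGL with hT
  set H := Γ.map T with hH
  have hl : ∀ v, T (slL v) = invol * aff 1 v * invol := fun v => lower_eq _ v rfl
  have hu : T (slU 1) = aff 1 1 := upper_eq _ 1 rfl
  have hinj : ∀ {v w : k}, T (slL v) = T (slL w) → v = w := fun {v w} h => by
    rw [hl, hl, mul_left_inj, mul_right_inj] at h
    exact (aff_injective h).2
  have hu1 : (aff 1 1 : PG k) ≠ 1 := by
    rw [← aff_one_zero]
    exact fun e => one_ne_zero (aff_injective e).2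
  have hup : (aff 1 1 : PG k) ^ p = 1 := translation_pow_char p 1
  have hlp : ∀ v : k, (invol * aff 1 v * invol : PG k) ^ p = 1 := fun v => by
    nth_rewrite 2 [← invol_inv]
    rw [conj_pow, translation_pow_char p, mul_one, mul_inv_cancel]
  have hl0 : ∀ v : k, (invol * aff 1 v * invol : PG k) • ((0 : k) : OnePoint k)
      = ((0 : k) : OnePoint k) := fun v => by
    rw [mul_smul, mul_smul, invol_zero, aff_smul_infty, invol_infty]
  have hlinf : ∀ v : k, v ≠ 0 → (invol * aff 1 v * invol : PG k) • (∞ : OnePoint k)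
      = ((v⁻¹ : k) : OnePoint k) := fun v hv => by
    rw [mul_smul, mul_smul, invol_infty, aff_smul_coe, mul_zero, zero_add]
    simp [invol, mk_smul_onePoint, smul_some_eq_ite, coe_mkMat, hv]
  have huH : aff 1 1 ∈ H := ⟨_, hU, hu⟩
  have hlH : ∀ v ∈ V, invol * aff 1 v * invol ∈ H := fun v hv => ⟨_, hV v hv, hl v⟩
  have hl1 : ∀ v : k, v ≠ 0 → (invol * aff 1 v * invol : PG k) ≠ 1 := fun v hv e => hv (hinj
    (v := v) (w := 0) (by rw [hl, e, CfsgLib.RootSub.slL_zero, map_one]))
  -- the translations in `H`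
  obtain ⟨m, hm⟩ : ∃ m, Nat.card V = p ^ m := by
    obtain ⟨n, hp, hn⟩ := FiniteField.card k p
    obtain ⟨m, -, hm⟩ := (Nat.dvd_prime_pow hp).1 (show Nat.card V ∣ p ^ (n : ℕ) by
      rw [← hn, ← Nat.card_eq_fintype_card]; exact AddSubgroup.card_addSubgroup_dvd_card V)
    exact ⟨m, hm⟩
  have hdvdV : Nat.card V ∣ Nat.card H := by
    let φ : Multiplicative V →* H := MonoidHom.mk'
      (fun v => ⟨T (slL (v.toAdd : k)), Subgroup.mem_map_of_mem T (hV _ v.toAdd.2)⟩)
      fun a b => Subtype.ext (by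
        change T (slL ((a * b).toAdd : k)) = T (slL (a.toAdd : k)) * T (slL (b.toAdd : k))
        rw [← map_mul, ← slL_add]; rfl)
    have := Subgroup.card_dvd_of_injective φ fun a b h => by
      exact Subtype.ext (hinj (congrArg Subtype.val h))
    rwa [show Nat.card (Multiplicative V) = Nat.card V from Nat.card_congr Multiplicative.toAdd] at this
  have hdvd : p ∣ Nat.card H := by
    refine dvd_trans ?_ hdvdV
    rw [hm]
    refine dvd_pow_self p ?_
    intro h0
    rw [hm, h0, pow_zero] at hcard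
    omega
  have key : (SpecialLinearGroup.toPGL : SpecialLinearGroup (Fin 2) k →* PG k).range ≤ H := by
    rcases classify_finite p H with h | h | h | h | h | h | h
    · exact absurd hdvd h.2
    · obtain ⟨A, hidx, -, hpA, -, -⟩ := h
      exfalso
      rw [← Subgroup.card_mul_index A, hidx] at hdvd hdvdV
      rcases (Nat.Prime.dvd_mul Fact.out).mp hdvd with h | h
      · exact hpA h
      · obtain rfl := (Nat.prime_dvd_prime_iff_eq Fact.out Nat.prime_two).mp h
        rw [hm] at hcard hdvdV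
        rcases m with _ | _ | m
        · simp at hcard
        · simp at hcard
        · exact hpA (Nat.dvd_of_mul_dvd_mul_right two_pos
            ((dvd_mul_left (2 * 2) (2 ^ m)).trans (by rw [pow_succ, pow_succ] at hdvdV; rwa [mul_assoc] at hdvdV)))
    · obtain ⟨-, x, hx⟩ := h
      have e1 : x = ∞ := unique_fixed_of_pow_char p hu1 hup (aff_smul_infty 1 1) (hx ⟨_, huH⟩)
      have e2 : x = ((0 : k) : OnePoint k) :=
        unique_fixed_of_pow_char p (hl1 _ hv₀') (hlp _) (hl0 _) (hx ⟨_, hlH _ hv₀⟩)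
      exact absurd (e1.symm.trans e2) (OnePoint.infty_ne_coe _)
    · exact absurd hdvd h.1
    · exact absurd hdvd h.1
    · obtain ⟨h3, ⟨e⟩⟩ := h
      exfalso
      obtain rfl : p = 3 := h3.resolve_left fun h => h hdvd
      have hH60 : Nat.card H = 60 := by
        have h2' := two_mul_nat_card_alternatingGroup (α := Fin 5)
        rw [Nat.card_perm, Nat.card_fin] at h2'
        rw [Nat.card_congr e.toEquiv]
        rw [show Nat.factorial 5 = 120 from rfl] at h2'
        omega
      rw [hH60, hm] at hdvdV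
      rw [hm] at hcard
      have hm3 : 3 ≤ m := by
        by_contra hlt
        interval_cases m <;> simp at hcard
      exact absurd ((pow_dvd_pow 3 hm3).trans hdvdV) (by norm_num)
    · obtain ⟨g₁, E, -, hpts, hH'⟩ := h
      have pts : ∀ x : OnePoint k, ∀ h : PG k, h ∈ H → h ≠ 1 → h ^ p = 1 → h • x = x →
          ∃ z : OnePoint E, g₁⁻¹ • x = OnePoint.map E.subtype z := by
        intro x h hh h1 hp' hx
        obtain ⟨z, hz⟩ := (hpts x).mp ⟨⟨h, hh⟩, fun e => h1 (congrArg Subtype.val e), hp', hx⟩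
        exact ⟨z, hz.symm⟩
      obtain ⟨a, ha⟩ := pts ∞ _ huH hu1 hup (aff_smul_infty 1 1)
      obtain ⟨b, hb⟩ := pts _ _ (hlH _ hv₀) (hl1 _ hv₀') (hlp _) (hl0 _)
      have hpt : ∀ v ∈ V, v ≠ 0 → ∃ z : OnePoint E,
          g₁⁻¹ • ((v⁻¹ : k) : OnePoint k) = OnePoint.map E.subtype z := fun v hv hv' =>
        pts _ _ (H.mul_mem (H.mul_mem (hlH v hv) huH) (H.inv_mem (hlH v hv)))
          (fun e => hu1 (conj_eq_one_iff.mp e)) (by rw [conj_pow, hup, mul_one, mul_inv_cancel])
          (by rw [← hlinf v hv', mul_smul, inv_smul_smul, mul_smul, aff_smul_infty])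
      obtain ⟨d, hd⟩ := hpt v₀ hv₀ hv₀'
      set g : PG k := g₁⁻¹ * aff (Units.mk0 v₀⁻¹ (inv_ne_zero hv₀')) 0 with hg
      obtain ⟨g₂, hg₂⟩ := mem_range_map_of_three E.subtype (g := g)
        (a := ∞) (b := ((0 : E) : OnePoint E)) (c := ((1 : E) : OnePoint E))
        (OnePoint.infty_ne_coe _) (OnePoint.infty_ne_coe _) zero_ne_one_onePoint
        (x := a) (y := b) (z := d)
        (by rw [hg, mul_smul, OnePoint.map_infty, aff_smul_infty, ha])
        (by rw [hg, mul_smul, OnePoint.map_some, map_zero, aff_smul_coe, mul_zero, zero_add, hb])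
        (by rw [hg, mul_smul, OnePoint.map_some, map_one, aff_smul_coe, mul_one, add_zero,
              Units.val_mk0, hd])
      have hEt : E = ⊤ := hgen E fun v hv => by
        by_cases hv' : v = 0
        · rw [hv', zero_div]; exact E.zero_mem
        obtain ⟨z, hz⟩ := hpt v hv hv'
        have h0 : g • ((v₀ * v⁻¹ : k) : OnePoint k) = OnePoint.map E.subtype z := by
          rw [hg, mul_smul, aff_smul_coe, Units.val_mk0, add_zero, inv_mul_cancel_left₀ hv₀', hz]
        rw [← hg₂, ← smul_inv_smul g₂ z, ← map_smul_onePoint] at h0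
        have h' := MulAction.injective _ h0
        cases hz' : g₂⁻¹ • z with
        | infty => rw [hz'] at h'; exact absurd h' (OnePoint.coe_ne_infty _)
        | coe e =>
          rw [hz'] at h'
          have he : v₀ * v⁻¹ = e := OnePoint.coe_eq_coe.mp h'
          have := E.inv_mem e.2
          rwa [← he, _root_.mul_inv_rev, inv_inv, ← div_eq_mul_inv] at this
      subst hEt
      have hbij : Function.Bijective ((⊤ : Subfield k).subtype) :=
        ⟨Subtype.coe_injective, fun x => ⟨⟨x, trivial⟩, rfl⟩⟩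
      rintro x hx
      obtain ⟨y, hy⟩ := (range_toPGL_normal k).conj_mem x hx g₁⁻¹
      obtain ⟨y', rfl⟩ := sl_map_surjective _ hbij y
      have hin : g₁⁻¹ * x * g₁⁻¹⁻¹ ∈ H.map (MulAut.conj g₁⁻¹).toMonoidHom := by
        rw [← hy]
        rcases hH' with h | ⟨-, h⟩ <;> rw [h, ← pg_map_toPGL]
        · exact ⟨_, rfl⟩
        · exact ⟨y', rfl⟩
      obtain ⟨h', hh', he⟩ := Subgroup.mem_map.mp hin
      have he' : g₁⁻¹ * h' * g₁⁻¹⁻¹ = g₁⁻¹ * x * g₁⁻¹⁻¹ := he
      rw [mul_right_cancel_iff, mul_left_cancel_iff] at he'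
      rwa [he'] at hh'
  -- lift from the projective group
  obtain ⟨d, hd2⟩ : ∃ d : k, (2 : k) ≠ 0 → d + d = c :=
    ⟨c / 2, fun h2 => by rw [← two_mul, mul_div_cancel₀ c h2]⟩
  have lift : ∀ d : k, ∃ s ∈ Γ, s = slL d ∨
      (s : Matrix (Fin 2) (Fin 2) k) = -(slL d : Matrix (Fin 2) (Fin 2) k) := by
    intro d
    obtain ⟨s, hs, he⟩ := key ⟨slL d, rfl⟩
    refine ⟨s, hs, ?_⟩
    have hz : s⁻¹ * slL d ∈ Subgroup.center (SpecialLinearGroup (Fin 2) k) := by
      have h : T (s⁻¹ * slL d) = 1 := by rw [map_mul, map_inv, he]; exact inv_mul_cancel _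
      have h' : ProjectiveSpecialLinearGroup.toPGL
          (QuotientGroup.mk (s⁻¹ * slL d) : ProjectiveSpecialLinearGroup (Fin 2) k) = (1 : PG k) := h
      rw [← map_one (ProjectiveSpecialLinearGroup.toPGL :
        ProjectiveSpecialLinearGroup (Fin 2) k →* PG k)] at h'
      exact (QuotientGroup.eq_one_iff _).mp (ProjectiveSpecialLinearGroup.toPGL_injective h')
    obtain ⟨r, hr, hr'⟩ := Matrix.SpecialLinearGroup.mem_center_iff.1 hz
    have hsl : slL d = s * (s⁻¹ * slL d) := (mul_inv_cancel_left _ _).symm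
    have hv : ((slL d : SpecialLinearGroup (Fin 2) k) : Matrix (Fin 2) (Fin 2) k)
        = r • (s : Matrix (Fin 2) (Fin 2) k) := by
      conv_lhs => rw [hsl]
      change (s : Matrix (Fin 2) (Fin 2) k) * ((s⁻¹ * slL d : Matrix.SpecialLinearGroup (Fin 2) k) :
        Matrix (Fin 2) (Fin 2) k) = _
      rw [← hr', scalar_apply, ← smul_one_eq_diagonal, Matrix.mul_smul, mul_one]
    rw [Fintype.card_fin] at hr
    rcases mul_self_eq_one_iff.1 ((sq r).symm.trans hr) with h | h
    · exact Or.inl (Subtype.ext (by rw [hv, h, one_smul]))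
    · exact Or.inr (by rw [hv, h, neg_one_smul, neg_neg])
  by_cases h2 : (2 : k) = 0
  · obtain ⟨s, hs, h | h⟩ := lift c
    · exact h ▸ hs
    · have : s = slL c := Subtype.ext (by
        rw [h]; ext i j
        rw [Matrix.neg_apply]
        linear_combination (-(slL c : Matrix (Fin 2) (Fin 2) k) i j) * h2)
      exact this ▸ hs
  · obtain ⟨s, hs, h | h⟩ := lift d
    · have := Γ.mul_mem hs hs
      rwa [h, ← slL_add, hd2 h2] at this
    · have := Γ.mul_mem hs hs
      have e : s * s = slL c := Subtype.ext (by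
        change (s : Matrix (Fin 2) (Fin 2) k) * (s : Matrix (Fin 2) (Fin 2) k) = _
        rw [h, neg_mul_neg, ← hd2 h2, slL_add]
        rfl)
      rwa [e] at this

end CfsgLib.ClassicalMax.UnitFour4
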