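/-
An overgroup of a unitary subfield group in dimension at least four has a new root parameter.
-/
import Cfsg.Agent.Lib.ClassicalMax.UnitSubFour.Base
import Cfsg.Agent.Lib.ClassicalMax.UnitSubFour.SL2
set_option autoImplicit false
set_option linter.unusedSectionVars false

namespace CfsgLib.ClassicalMax.UnitFour4

open Matrix Cfsg.Geo CfsgLib.ClassicalMax CfsgLib.ClassicalMax.LinSub
open CfsgLib.ClassicalMax.Unit CfsgLib.ClassicalMax.Unit.Sub
open CfsgLib.RootSub (slU slL slU_val slL_val)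

variable {ι : Type} [Fintype ι] [DecidableEq ι] {F : Type*} [Field F] [Fintype F] [DecidableEq F]
  {F₀ : Subfield F} {σ : F ≃+* F} {f : (ι → F) → (ι → F) → F} {σ₀ : F₀ ≃+* F₀}
  {B : (ι → F₀) → (ι → F₀) → F₀} {R : Rat σ f σ₀ B} {M : Subgroup (GL ι F)} {τ : F₀}

variable (H : Hyp R M τ)
include H

/-- An isotropic vector orthogonal to two vectors. -/
lemma exists_orth_two (p w : ι → F₀) : ∃ z, z ≠ 0 ∧ B z z = 0 ∧ B z p = 0 ∧ B z w = 0 := by
  haveI := Fintype.ofFinite F₀
  let L : (ι → F₀) →ₗ[F₀] (Fin 2 → F₀) := LinearMap.pi fun i => formL R.hB (![p, w] i)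
  have h1 := LinearMap.finrank_range_add_finrank_ker L
  have h2 : Module.finrank F₀ (LinearMap.range L) ≤ 2 := by
    simpa using Submodule.finrank_le (LinearMap.range L)
  rw [Module.finrank_fintype_fun_eq_card] at h1
  have hn := H.hn
  obtain ⟨z, hzK, hz0, hz⟩ := exists_isotropic_mem R.hB (W := LinearMap.ker L) (by omega)
  exact ⟨z, hz0, hz, congrFun hzK 0, congrFun hzK 1⟩

/-- A rational pair on which the pairings with an irrational point have irrational ratio. -/
lemma exists_pair {u : ι → F} (hu : ¬ IsRat F₀ u) : ∃ p q : ι → F₀, B p p = 0 ∧ B q q = 0 ∧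
    B p q = 0 ∧ LinearIndependent F₀ ![p, q] ∧ f u (cv p) ≠ 0 ∧
      f u (cv q) / f u (cv p) ∉ F₀ := by
  haveI := Fintype.ofFinite F₀
  have hf := R.hf
  have hn := H.hn
  by_contra hcon
  push Not at hcon
  let A : (ι → F₀) → F := fun v => f u (cv v)
  have hA : ∀ v w, A (v + w) = A v + A w := fun v w => by simp only [A, cv_add, Unit.add_right hf]
  have rel : ∀ v w, B v v = 0 → B w w = 0 → B v w = 0 → A v ≠ 0 → A w / A v ∈ F₀ := by
    intro v w hv hw hvw hAv
    by_cases hli : LinearIndependent F₀ ![v, w]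
    · exact hcon v w hv hw hvw hli hAv
    · have hv0 : v ≠ 0 := fun e => hAv (by simp only [A, e, cv_zero, zero_right hf])
      rw [LinearIndependent.pair_iff' hv0] at hli
      push Not at hli
      obtain ⟨c, rfl⟩ := hli
      simp only [A, cv_smul, Unit.smul_right hf, ← R.coe_σ]
      rw [mul_div_assoc, div_self hAv, mul_one]
      exact (σ₀ c).2
  have htop : Fintype.card ι + 1 < 2 * Module.finrank F₀ (⊤ : Submodule F₀ (ι → F₀)) := by
    rw [finrank_top, Module.finrank_fintype_fun_eq_card]; omega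
  have hspan : ∀ x : ι → F₀, x ∈ Submodule.span F₀
      {w | w ∈ (⊤ : Submodule F₀ (ι → F₀)) ∧ B w w = 0} := fun x => by
    rw [isotropic_span_succ R.hB htop]; trivial
  -- the values lie on one rational line
  obtain ⟨l, hl⟩ : ∃ l : F, ∀ w, B w w = 0 → ∃ c : F₀, A w = (c : F) * l := by
    by_cases h0 : ∀ w, B w w = 0 → A w = 0
    · exact ⟨0, fun w hw => ⟨0, by rw [h0 w hw, mul_zero]⟩⟩
    push Not at h0
    obtain ⟨p, hp, hAp⟩ := h0
    refine ⟨A p, fun w hw => ⟨⟨A w / A p, ?_⟩, (div_mul_cancel₀ _ hAp).symm⟩⟩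
    by_cases hpw : B p w = 0
    · exact rel p w hp hw hpw hAp
    obtain ⟨z, hz0, hz, hzp, hzw⟩ := exists_orth_two H p w
    by_cases hAz : A z = 0
    · have hwp : B w p ≠ 0 := ne_zero_comm R.hB hpw
      have hliz : LinearIndependent F₀ ![z, p, w] := by
        rw [Fintype.linearIndependent_iff]
        intro c hc
        simp only [Fin.sum_univ_three, Matrix.cons_val_zero, Matrix.cons_val_one,
          Matrix.cons_val] at hc
        have e1 := congrArg (fun t => B t p) hc
        have e2 := congrArg (fun t => B t w) hc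
        simp only [R.hB.add_left, R.hB.smul_left, hzp, hzw, hp, hw, zero_left R.hB, mul_zero,
          add_zero, zero_add, mul_eq_zero, or_iff_left hwp, or_iff_left hpw] at e1 e2
        rw [e1, e2, zero_smul, zero_smul, add_zero, add_zero, smul_eq_zero] at hc
        intro i
        fin_cases i
        exacts [hc.resolve_right hz0, e2, e1]
      obtain ⟨y, hy, hzy, hrest⟩ := exists_isotropic_pairing R.hB hliz (fun i => by
        fin_cases i
        · exact hz
        · exact eq_zero_comm R.hB hzp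
        · exact eq_zero_comm R.hB hzw)
      have hpy : B p y = 0 := hrest 0
      have hwy : B w y = 0 := hrest 1
      set z' := σ₀ (-(B p w)) • y with hz'
      have hz'z : B z z' = -(B p w) := by
        rw [hz', Unit.smul_right R.hB, show B z y = 1 from hzy, R.hB.involutive, mul_one]
      have hz'p : B p z' = 0 := by rw [hz', Unit.smul_right R.hB, hpy, mul_zero]
      have hz'w : B w z' = 0 := by rw [hz', Unit.smul_right R.hB, hwy, mul_zero]
      have hz'i : B z' z' = 0 := by rw [hz', R.hB.smul_left, Unit.smul_right R.hB, hy, mul_zero, mul_zero]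
      have hAz' : A z' = 0 ∨ A z' ≠ 0 := eq_or_ne _ _
      rcases hAz' with hAz' | hAz'
      · have h1 := rel (p + z) (w + z')
          (by simp [R.hB.add_left, Unit.add_right R.hB, hp, hz, hzp, eq_zero_comm R.hB hzp])
          (by simp [R.hB.add_left, Unit.add_right R.hB, hw, hz'i, hz'w, eq_zero_comm R.hB hz'w])
          (by simp [R.hB.add_left, Unit.add_right R.hB, hzw, hz'p, hz'z])
          (by rwa [hA, hAz, add_zero])
        rwa [hA, hA, hAz, hAz', add_zero, add_zero] at h1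
      · have h1 := rel z' p hz'i hp (eq_zero_comm R.hB hz'p) hAz'
        have h2 := rel z' w hz'i hw (eq_zero_comm R.hB hz'w) hAz'
        have := F₀.div_mem h2 h1
        rwa [div_div_div_cancel_right₀ hAz'] at this
    · have h1 := rel z p hz hp hzp hAz
      have h2 := rel z w hz hw hzw hAz
      have := F₀.div_mem h2 h1
      rwa [div_div_div_cancel_right₀ hAz] at this
  let φ : (ι → F₀) →ₗ[F₀] F :=
    { toFun := fun y => σ (f u (cv y))
      map_add' := fun x y => by rw [cv_add, Unit.add_right hf, map_add]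
      map_smul' := fun c x => by
        rw [cv_smul, Unit.smul_right hf, map_mul, hf.involutive]; rfl }
  have hall : ∀ y : ι → F₀, ∃ c : F₀, f u (cv y) = (c : F) * l := by
    intro y
    have h : y ∈ (Submodule.span F₀ {σ l}).comap φ := by
      refine (Submodule.span_le.2 ?_) (hspan y)
      intro w hw
      obtain ⟨c, hc⟩ := hl w hw.2
      refine Submodule.mem_span_singleton.2 ⟨σ₀ c, ?_⟩
      change ((σ₀ c : F₀) : F) * σ l = σ (f u (cv w))
      rw [show f u (cv w) = (c : F) * l from hc, map_mul, R.coe_σ]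
    obtain ⟨c, hc⟩ := Submodule.mem_span_singleton.1 h
    refine ⟨σ₀ c, ?_⟩
    have := congrArg σ hc
    change σ ((c : F) * σ l) = σ (σ (f u (cv y))) at this
    rw [hf.involutive, map_mul, hf.involutive, ← R.coe_σ] at this
    exact this.symm
  choose c hc using hall
  apply hu
  by_cases hl0 : l = 0
  · refine ⟨0, 0, ?_⟩
    rw [zero_smul]
    by_contra hne
    obtain ⟨x, hx⟩ := (hf.nondegenerate u hne).2
    apply hx
    have hxu : f x u = 0 := by
      rw [eq_sum_ratVec (F₀ := F₀) 1 x, ← formL_apply hf u, map_sum]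
      refine Finset.sum_eq_zero fun i _ => ?_
      rw [map_smul, formL_apply, ratVec_one, hf.herm, hc, hl0, mul_zero, map_zero, smul_zero]
    rw [hf.herm, hxu, map_zero]
  · let β : (ι → F₀) →ₗ[F₀] F₀ :=
      { toFun := fun y => σ₀ (c y)
        map_add' := fun x y => by
          rw [← map_add]
          congr 1
          exact Subtype.ext (mul_right_cancel₀ hl0 (by
            rw [Subfield.coe_add, add_mul, ← hc, ← hc, ← hc, cv_add, Unit.add_right hf]))
        map_smul' := fun a x => by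
          rw [RingHom.id_apply, smul_eq_mul]
          apply (RingEquiv.injective σ₀)
          rw [R.hB.involutive, map_mul, R.hB.involutive]
          exact Subtype.ext (mul_right_cancel₀ hl0 (by
            rw [Subfield.coe_mul, mul_assoc, ← hc, ← hc, cv_smul, Unit.smul_right hf, R.coe_σ])) }
    obtain ⟨r, hr⟩ := Unit.exists_form_eq R.hB β
    refine ⟨l, r, sub_eq_zero.1 (by_contra fun hne => ?_)⟩
    obtain ⟨x, hx⟩ := (hf.nondegenerate _ hne).1
    apply hx
    rw [eq_sum_ratVec (F₀ := F₀) 1 x, ← formL_apply hf (u - l • cv r), map_sum]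
    refine Finset.sum_eq_zero fun i _ => ?_
    rw [map_smul, formL_apply, ratVec_one, sub_right hf, Unit.smul_right hf, ← R.coe_B, hr,
      hf.herm, hc, map_mul, ← R.coe_σ]
    change _ • (_ - σ l * ((σ₀ (c _) : F₀) : F)) = 0
    rw [mul_comm (σ l), sub_self, smul_zero]

variable {p q : ι → F₀} {u : ι → F}

/-- An element of `M` moving a line through irrational transvection centres. -/
lemma exists_new_of_moved (hp : B p p = 0) (hq : B q q = 0) (hpq : B p q = 0)
    (hli : LinearIndependent F₀ ![p, q]) (ha : f u (cv p) ≠ 0)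
    (hz : f u (cv q) / f u (cv p) ∉ F₀) {g : GL ι F} (hg : g ∈ M) {ε : F} (hε : ε ≠ 0)
    (hd : (g : Matrix ι ι F) *ᵥ (σ (f u (cv q)) • cv p - σ (f u (cv p)) • cv q)
      = σ (f u (cv q)) • cv p - σ (f u (cv p)) • cv q)
    (hgp : (g : Matrix ι ι F) *ᵥ cv p
      = cv p + ε • (σ (f u (cv q)) • cv p - σ (f u (cv p)) • cv q)) :
    ∃ x₀, Par R M τ x₀ ∧ x₀ ∉ F₀ := by
  have hf := R.hf
  have op := R.orth hp
  have oq := R.orth hq
  have opq := R.orth hpq
  set a := f u (cv p) with had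
  set b := f u (cv q) with hbd
  set w := σ b / σ a with hw
  have hσa : σ a ≠ 0 := fun e => ha (by simpa using congrArg σ.symm e)
  have hwF : w ∉ F₀ := fun h => hz (by
    have h' := R.coe_σ ⟨w, h⟩ ▸ (σ₀ ⟨w, h⟩).2
    simpa [hw, map_div₀, hf.involutive] using h')
  have hgq : (g : Matrix ι ι F) *ᵥ cv q = cv q + (ε * w) • (σ b • cv p - σ a • cv q) := by
    have h1 : σ a • ((g : Matrix ι ι F) *ᵥ cv q)
        = σ a • (cv q + (ε * w) • (σ b • cv p - σ a • cv q)) := by
      rw [mulVec_sub, mulVec_smul, mulVec_smul, hgp] at hd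
      have e : σ a * (ε * w) = σ b * ε := by rw [hw]; field_simp
      linear_combination (norm := module) -hd - congrArg (fun c => c • (σ b • cv p - σ a • cv q)) e
    simpa [smul_smul, hσa] using congrArg (fun v => (σ a)⁻¹ • v) h1
  set e := ε * σ a with he
  have he0 : e ≠ 0 := mul_ne_zero hε hσa
  have hεb : ε * σ b = e * w := by rw [he, hw]; field_simp
  have w1 : (g : Matrix ι ι F) *ᵥ cv p = (1 + e * w) • cv p + (-e) • cv q := by
    rw [hgp, ← hεb, he]; module
  have w2 : (g : Matrix ι ι F) *ᵥ cv q = (e * w * w) • cv p + (1 - e * w) • cv q := by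
    rw [hgq, ← hεb, smul_sub, smul_smul, smul_smul,
      show ε * w * σ a = e * w by rw [he]; ring, show ε * σ b = e * w from hεb,
      show ε * w * σ b = e * w * w by rw [← hεb]; ring]
    module
  by_contra hcon
  have ratio : ∀ (v : ι → F₀) (α β : F), B v v = 0 →
      (g : Matrix ι ι F) *ᵥ cv v = α • cv p + β • cv q → β ≠ 0 → α / β ∈ F₀ := by
    intro v α β hv hgv hβ
    have h := M.mul_mem (M.mul_mem hg (H.hM.tv v hv τ H.hτ)) (M.inv_mem hg)
    rw [uTv_conj hf (H.hMi hg) (R.orth hv), hgv, uTv_add_eq_sg hf op oq opq α β (στ H)] at h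
    have hN : ∀ t : F, σ (t * σ t) = t * σ t := fun t => by
      rw [map_mul, hf.involutive, mul_comm]
    have h3 : (τ : F) * (σ α * β) ∈ F₀ ∧ β * σ β ∈ F₀ := by
      by_contra hne
      exact hcon (exists_new H hp hq hpq hli (hN α) (hN β) h fun h3 => hne ⟨h3.2.1, h3.2.2⟩)
    have h4 : σ α * β ∈ F₀ := by
      have := F₀.div_mem h3.1 τ.2
      rwa [mul_div_cancel_left₀ _ (τF H)] at this
    have h5 := R.coe_σ ⟨_, h4⟩ ▸ (σ₀ ⟨_, h4⟩).2
    change σ (σ α * β) ∈ F₀ at h5
    rw [map_mul, hf.involutive] at h5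
    have h6 := F₀.div_mem h5 h3.2
    rwa [mul_comm α, mul_comm β, mul_div_mul_left _ _ (fun e => hβ (by simpa using congrArg σ.symm e))] at h6
  have hr1 := ratio p _ _ hp w1 (neg_ne_zero.2 he0)
  set r₁ : F₀ := ⟨_, hr1⟩ with hr₁
  have hr1e : (r₁ : F) * -e = 1 + e * w := div_mul_cancel₀ _ (neg_ne_zero.2 he0)
  by_cases hβ : 1 - e * w = 0
  · have hsum : B (p + q) (p + q) = 0 := by
      simp [R.hB.add_left, Unit.add_right R.hB, hp, hq, hpq, eq_zero_comm R.hB hpq]
    have w3 : (g : Matrix ι ι F) *ᵥ cv (p + q) = (1 + e * w + e * w * w) • cv p + (-e) • cv q := by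
      rw [cv_add, mulVec_add, w1, w2, hβ]; module
    have h := F₀.sub_mem r₁.2 (ratio _ _ _ hsum w3 (neg_ne_zero.2 he0))
    rw [show (r₁ : F) - (1 + e * w + e * w * w) / -e = w * w by
      rw [hr₁]; field_simp; ring] at h
    exact hwF (mem_of_quad R H.hr H.hr2 (a := 0) (b := ⟨_, h⟩) (by simp))
  · have hr2 := ratio q _ _ hq w2 hβ
    set r₂ : F₀ := ⟨_, hr2⟩ with hr₂
    have hr2e : (r₂ : F) * (1 - e * w) = e * w * w := div_mul_cancel₀ _ hβ
    have h1 : ((r₁ - r₂ : F₀) : F) * (-e * (1 - e * w)) = 1 := by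
      rw [Subfield.coe_sub]
      linear_combination (1 - e * w) * hr1e + e * hr2e
    set K : F₀ := (r₁ - r₂)⁻¹ with hK
    have hKe : -e * (1 - e * w) = (K : F) := by
      rw [hK, Subfield.coe_inv]
      exact eq_inv_of_mul_eq_one_right h1
    -- `e * (1 - e * w) = 2 e + r₁ e²`
    have h2 : (r₁ : F) * (e * e) + 2 * e = -(K : F) := by
      linear_combination -hKe - e * hr1e
    have heF : e ∈ F₀ := by
      by_cases hr0 : r₁ = 0
      · rw [hr0, Subfield.coe_zero, zero_mul, zero_add] at h2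
        have h22 : (2 : F) ≠ 0 := fun h22 => hβ (by
          rw [hr0, Subfield.coe_zero, zero_mul] at hr1e
          linear_combination hr1e + h22)
        have := F₀.div_mem (F₀.neg_mem K.2) (show (2 : F) ∈ F₀ from ofNat_mem F₀ 2)
        rwa [← h2, mul_div_cancel_left₀ _ h22] at this
      · have hr0' : (r₁ : F) ≠ 0 := fun e => hr0 (Subtype.ext (by simpa using e))
        exact mem_of_quad R H.hr H.hr2 (a := -2 / r₁) (b := -K / r₁) (by
          simp only [Subfield.coe_div, Subfield.coe_neg]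
          rw [show ((2 : F₀) : F) = 2 from rfl]
          field_simp
          linear_combination h2)
    apply hwF
    rw [show w = ((r₁ : F) * -e - 1) / e by rw [hr1e]; field_simp; ring]
    exact F₀.div_mem (F₀.sub_mem (F₀.mul_mem r₁.2 (F₀.neg_mem heF)) F₀.one_mem) heF

/-- An element of `M` fixing a line and the orthogonal of a plane pointwise is a Siegel element. -/
lemma eq_sg_of_fix (hp : B p p = 0) (hq : B q q = 0) (hpq : B p q = 0)
    (hli : LinearIndependent F₀ ![p, q]) (ha : f u (cv p) ≠ 0) {g : GL ι F} (hg : g ∈ M)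
    (hgp : (g : Matrix ι ι F) *ᵥ cv p = cv p) (hgq : (g : Matrix ι ι F) *ᵥ cv q = cv q)
    (hgz : ∀ z, f z u = 0 → f z (cv p) = 0 → f z (cv q) = 0 → (g : Matrix ι ι F) *ᵥ z = z) :
    ∃ x b y : F, σ x = x ∧ σ y = y ∧
      g = sg R.hf (cv p) (cv q) ((τ : F) * x) b ((τ : F) * y) := by
  have hf := R.hf
  obtain ⟨p', q', hp', hq', hp'q', hpp', hqq', hpq', hqp'⟩ := exists_dual H hp hq hpq hli
  have hgi := H.hMi hg
  have op := R.orth hp
  have oq := R.orth hq
  have opq := R.orth hpq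
  have gip : ((g⁻¹ : GL ι F) : Matrix ι ι F) *ᵥ cv p = cv p := by
    conv_lhs => rw [← hgp]
    rw [gl_inv_mulVec_mulVec]
  have giq : ((g⁻¹ : GL ι F) : Matrix ι ι F) *ᵥ cv q = cv q := by
    conv_lhs => rw [← hgq]
    rw [gl_inv_mulVec_mulVec]
  have giz : ∀ z, f z u = 0 → f z (cv p) = 0 → f z (cv q) = 0 →
      ((g⁻¹ : GL ι F) : Matrix ι ι F) *ᵥ z = z := fun z h1 h2 h3 => by
    conv_lhs => rw [← hgz z h1 h2 h3]
    rw [gl_inv_mulVec_mulVec]
  have hpu0 : f (cv p) u ≠ 0 := ne_zero_comm hf ha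
  have hmv : ∀ h ∈ isoOf f, (h : Matrix ι ι F) *ᵥ cv p = cv p → (h : Matrix ι ι F) *ᵥ cv q = cv q →
      (∀ z, f z u = 0 → f z (cv p) = 0 → f z (cv q) = 0 → (h : Matrix ι ι F) *ᵥ z = z) →
      ∀ z, (h : Matrix ι ι F) *ᵥ z = z + f ((h : Matrix ι ι F) *ᵥ z - z) (cv p') • cv p
        + f ((h : Matrix ι ι F) *ᵥ z - z) (cv q') • cv q := by
    intro h hh h1 h2 h3 z
    set y := (h : Matrix ι ι F) *ᵥ z - z with hy
    have e1 : f y (cv p) = 0 := by
      rw [hy, sub_left hf]
      nth_rewrite 1 [← h1]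
      rw [mem_isoOf.1 hh, sub_self]
    have e2 : f y (cv q) = 0 := by
      rw [hy, sub_left hf]
      nth_rewrite 1 [← h2]
      rw [mem_isoOf.1 hh, sub_self]
    have e3 : ∀ w, f w u = 0 → f w (cv p) = 0 → f w (cv q) = 0 → f y w = 0 := fun w a b c => by
      rw [hy, sub_left hf]
      nth_rewrite 1 [← h3 w a b c]
      rw [mem_isoOf.1 hh, sub_self]
    have opp' : f (cv p) (cv p') = 1 := by rw [← R.coe_B, hpp', Subfield.coe_one]
    have oqq' : f (cv q) (cv q') = 1 := by rw [← R.coe_B, hqq', Subfield.coe_one]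
    have op'p : f (cv p') (cv p) = 1 := by rw [hf.herm, opp', map_one]
    have oq'q : f (cv q') (cv q) = 1 := by rw [hf.herm, oqq', map_one]
    have opq' := R.orth hpq'
    have oqp' := R.orth hqp'
    set r := y - f y (cv p') • cv p - f y (cv q') • cv q with hr
    have r1 : f r (cv p) = 0 := by
      simp [hr, sub_left hf, hf.smul_left, e1, op, eq_zero_comm hf opq]
    have r2 : f r (cv q) = 0 := by simp [hr, sub_left hf, hf.smul_left, e2, oq, opq]
    have r3 : f r (cv p') = 0 := by simp [hr, sub_left hf, hf.smul_left, opp', oqp']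
    have r4 : f r (cv q') = 0 := by simp [hr, sub_left hf, hf.smul_left, opq', oqq']
    suffices hr0 : r = 0 by
      rw [hr, hy] at hr0
      linear_combination (norm := module) hr0
    by_contra hne
    obtain ⟨w, hw⟩ := (hf.nondegenerate r hne).2
    apply hw
    set c₁ := f w (cv p)
    set c₂ := f w (cv q)
    set c₃ := (f w u - c₁ * f (cv p') u - c₂ * f (cv q') u) / f (cv p) u
    set w' := w - c₁ • cv p' - c₂ • cv q' - c₃ • cv p with hw'
    have w1 : f w' (cv p) = 0 := by
      simp [hw', c₁, sub_left hf, hf.smul_left, op'p, eq_zero_comm hf opq', op]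
    have w2 : f w' (cv q) = 0 := by
      simp [hw', c₂, sub_left hf, hf.smul_left, oq'q, eq_zero_comm hf oqp', opq]
    have w3 : f w' u = 0 := by
      simp only [hw', sub_left hf, hf.smul_left, c₃, div_mul_cancel₀ _ hpu0]
      ring
    have r5 : f r w' = 0 := by
      simp only [hr, sub_left hf, hf.smul_left, e3 w' w3 w1 w2, eq_zero_comm hf w1,
        eq_zero_comm hf w2]
      ring
    have ew : w = w' + c₁ • cv p' + c₂ • cv q' + c₃ • cv p := by rw [hw']; abel
    rw [ew]
    simp [Unit.add_right hf, Unit.smul_right hf, r1, r3, r4, r5]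
  have hii := (isoOf f).inv_mem hgi
  set α₁ := f (((g⁻¹ : GL ι F) : Matrix ι ι F) *ᵥ cv p' - cv p') (cv p')
  set β₁ := f (((g⁻¹ : GL ι F) : Matrix ι ι F) *ᵥ cv p' - cv p') (cv q')
  set α₂ := f (((g⁻¹ : GL ι F) : Matrix ι ι F) *ᵥ cv q' - cv q') (cv p')
  set β₂ := f (((g⁻¹ : GL ι F) : Matrix ι ι F) *ᵥ cv q' - cv q') (cv q')
  have ep : ((g⁻¹ : GL ι F) : Matrix ι ι F) *ᵥ cv p' = cv p' + α₁ • cv p + β₁ • cv q :=
    hmv _ hii gip giq giz (cv p')
  have eq : ((g⁻¹ : GL ι F) : Matrix ι ι F) *ᵥ cv q' = cv q' + α₂ • cv p + β₂ • cv q :=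
    hmv _ hii gip giq giz (cv q')
  have opp' : f (cv p) (cv p') = 1 := by rw [← R.coe_B, hpp', Subfield.coe_one]
  have oqq' : f (cv q) (cv q') = 1 := by rw [← R.coe_B, hqq', Subfield.coe_one]
  have op'p : f (cv p') (cv p) = 1 := by rw [hf.herm, opp', map_one]
  have oq'q : f (cv q') (cv q) = 1 := by rw [hf.herm, oqq', map_one]
  have opq' := R.orth hpq'
  have oqp' := R.orth hqp'
  have op' := R.orth hp'
  have oq' := R.orth hq'
  have op'q' := R.orth hp'q'
  have s1 : α₁ + σ α₁ = 0 := by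
    have := mem_isoOf.1 hii (cv p') (cv p')
    rw [ep] at this
    simpa [ hf.add_left, Unit.add_right hf, hf.smul_left, Unit.smul_right hf, op, oq, opq, op',
      eq_zero_comm hf opq, oqp', eq_zero_comm hf oqp', opp', op'p, add_comm] using this
  have s2 : β₂ + σ β₂ = 0 := by
    have := mem_isoOf.1 hii (cv q') (cv q')
    rw [eq] at this
    simpa [ hf.add_left, Unit.add_right hf, hf.smul_left, Unit.smul_right hf, op, oq, opq, oq',
      eq_zero_comm hf opq, opq', eq_zero_comm hf opq', oqq', oq'q, add_comm] using this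
  have s3 : β₁ + σ α₂ = 0 := by
    have := mem_isoOf.1 hii (cv p') (cv q')
    rw [ep, eq] at this
    simpa [ hf.add_left, Unit.add_right hf, hf.smul_left, Unit.smul_right hf, op, oq, opq,
      op', oq', op'q', eq_zero_comm hf opq, opq', oqp', eq_zero_comm hf opq', eq_zero_comm hf oqp',
      oqq', oq'q, opp', op'p, add_comm] using this
  have hdual : ∀ z, f ((g : Matrix ι ι F) *ᵥ z) (cv p') = f z (cv p' + α₁ • cv p + β₁ • cv q) ∧
      f ((g : Matrix ι ι F) *ᵥ z) (cv q') = f z (cv q' + α₂ • cv p + β₂ • cv q) := fun z => by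
    rw [← ep, ← eq, form_mulVec_left hgi, form_mulVec_left hgi]
    exact ⟨rfl, rfl⟩
  refine ⟨σ α₁ / τ, σ α₂, σ β₂ / τ, ?_, ?_, gl_ext_mulVec fun z => ?_⟩
  · rw [map_div₀, hf.involutive, στ H, div_neg, ← neg_div]
    congr 1
    linear_combination -s1
  · rw [map_div₀, hf.involutive, στ H, div_neg, ← neg_div]
    congr 1
    linear_combination -s2
  rw [mul_div_cancel₀ _ (τF H), mul_div_cancel₀ _ (τF H), sg_mulVec hf op oq opq, hf.involutive,
    hmv g hgi hgp hgq hgz z, sub_left hf, sub_left hf, (hdual z).1, (hdual z).2]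
  simp only [Unit.add_right hf, Unit.smul_right hf]
  have s3' : σ β₁ = -α₂ := by
    have := congrArg σ s3
    rw [map_add, hf.involutive, map_zero] at this
    linear_combination this
  rw [s3']
  module

/-- A transvection at an irrational point gives a new parameter. -/
lemma exists_new_of_transvection (hu : f u u = 0) (huR : ¬ IsRat F₀ u)
    (huM : uTv R.hf u (τ : F) ∈ M) : ∃ x₀, Par R M τ x₀ ∧ x₀ ∉ F₀ := by
  classical
  have hf := R.hf
  haveI := Fintype.ofFinite F₀
  obtain ⟨p, q, hp, hq, hpq, hli, ha, hz⟩ := exists_pair H huR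
  have op := R.orth hp
  have oq := R.orth hq
  have opq := R.orth hpq
  set a := f u (cv p) with had
  set b := f u (cv q) with hbd
  have hpu : f (cv p) u = σ a := by rw [hf.herm, ← had]
  have hqu : f (cv q) u = σ b := by rw [hf.herm, ← hbd]
  have hσa : σ a ≠ 0 := fun e => ha (by simpa using congrArg σ.symm e)
  have hτ := τF H
  set k := fixedField σ with hk
  set d := σ b • cv p - σ a • cv q with hd
  set pt := ((τ : F) * σ a)⁻¹ • cv p with hpt
  have hdu : f d u = 0 := by
    rw [hd, sub_left hf, hf.smul_left, hf.smul_left, hpu, hqu]; ring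
  have hdp : f d (cv p) = 0 := by
    rw [hd, sub_left hf, hf.smul_left, hf.smul_left, op, eq_zero_comm hf opq]; ring
  have hdq : f d (cv q) = 0 := by
    rw [hd, sub_left hf, hf.smul_left, hf.smul_left, oq, opq]; ring
  -- elements acting on the plane of `u` and `pt` modulo `d`
  let P : GL ι F → Matrix (Fin 2) (Fin 2) F → Prop := fun g m =>
    (∀ z, f z u = 0 → f z (cv p) = 0 → f z (cv q) = 0 → (g : Matrix ι ι F) *ᵥ z = z) ∧
    (g : Matrix ι ι F) *ᵥ d = d ∧
      (∃ e : F, (g : Matrix ι ι F) *ᵥ u = m 0 0 • u + m 1 0 • pt + e • d) ∧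
      ∃ e : F, (g : Matrix ι ι F) *ᵥ pt = m 0 1 • u + m 1 1 • pt + e • d
  have Pmul : ∀ g h m n, P g m → P h n → P (g * h) (m * n) := by
    rintro g h m n ⟨gz, gd, ⟨e1, gu⟩, ⟨e2, gp⟩⟩ ⟨hz', hd', ⟨e3, hu'⟩, ⟨e4, hp'⟩⟩
    refine ⟨fun z a b c => by rw [gl_mulVec_mul, hz' z a b c, gz z a b c],
      by rw [gl_mulVec_mul, hd', gd], ⟨n 0 0 * e1 + n 1 0 * e2 + e3, ?_⟩,
      ⟨n 0 1 * e1 + n 1 1 * e2 + e4, ?_⟩⟩ <;>
    · simp only [gl_mulVec_mul, hu', hp', mulVec_add, mulVec_smul, gu, gp, gd, Matrix.mul_apply,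
        Fin.sum_univ_two]
      module
  let Γ₀ : Submonoid (SpecialLinearGroup (Fin 2) k) :=
    { carrier := {x | ∃ g ∈ M, P g ((x : Matrix (Fin 2) (Fin 2) k).map fun t => (t : F))}
      one_mem' := ⟨1, M.one_mem, fun z _ _ _ => by simp, by simp, ⟨0, by simp⟩, ⟨0, by simp⟩⟩
      mul_mem' := by
        rintro x y ⟨g, hg, hgx⟩ ⟨h, hh, hhy⟩
        refine ⟨g * h, M.mul_mem hg hh, ?_⟩
        have := Pmul _ _ _ _ hgx hhy
        convert this using 1
        exact Matrix.map_mul (f := k.subtype) }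
  let Γ : Subgroup (SpecialLinearGroup (Fin 2) k) :=
    { Γ₀ with
      inv_mem' := fun {x} hx => by
        have h1 : x⁻¹ = x ^ (orderOf x - 1) := inv_eq_of_mul_eq_one_right (by
          rw [← pow_succ', Nat.sub_add_cancel (orderOf_pos x), pow_orderOf_eq_one])
        rw [h1]
        exact Γ₀.pow_mem hx _ }
  have hT : P (uTv hf u (τ : F)) ((slU (1 : k) : Matrix (Fin 2) (Fin 2) k).map fun t => (t : F)) := by
    refine ⟨fun z hz1 _ _ => uTv_mulVec_of_orth hf hu _ hz1, uTv_mulVec_of_orth hf hu _ hdu, ⟨0, ?_⟩, ⟨0, ?_⟩⟩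
    · rw [uTv_mulVec hf hu, hu]; simp [slU_val]
    · rw [uTv_mulVec hf hu, hpt, hf.smul_left, hpu]
      simp only [slU_val, Matrix.map_apply, Matrix.of_apply, Matrix.cons_val', Matrix.cons_val_zero,
        Matrix.cons_val_one, Matrix.empty_val', Matrix.cons_val_fin_one, Subfield.coe_one, zero_smul,
        add_zero, one_smul]
      rw [show (τ : F) * (((τ : F) * σ a)⁻¹ * σ a) = 1 by field_simp, one_smul]
      module
  -- rational Siegel elements
  set k₀ := fixedField σ₀ with hk₀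
  let lam₀ : k₀ × F₀ × k₀ → F := fun t => (τ : F) * ((τ : F) * ((t.1 : F₀) : F) * (a * σ a)
      + ((t.2.1 : F) * (a * σ b) - σ (t.2.1 : F) * (b * σ a))
      + (τ : F) * ((t.2.2 : F₀) : F) * (b * σ b))
  have hfx : ∀ c : k₀, σ ((c : F₀) : F) = ((c : F₀) : F) := fun c => by
    rw [← R.coe_σ]; exact congrArg Subtype.val (c.2 : σ₀ (c : F₀) = c)
  have hlamσ : ∀ t, σ (lam₀ t) = lam₀ t := fun t => by
    simp only [lam₀, map_mul, map_add, map_sub, στ H, hfx, hf.involutive]
    ring
  let lam : k₀ × F₀ × k₀ →+ k := AddMonoidHom.mk' (fun t => ⟨lam₀ t, hlamσ t⟩) fun t t' =>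
    Subtype.ext (by
      simp only [lam₀, Prod.fst_add, Prod.snd_add, Subfield.coe_add, map_add]
      ring)
  let S : k₀ × F₀ × k₀ → GL ι F := fun t => sg hf (cv p) (cv q) ((τ : F) * ((t.1 : F₀) : F))
    (t.2.1 : F) ((τ : F) * ((t.2.2 : F₀) : F))
  have hSM : ∀ t, S t ∈ M := fun t => by
    refine M.mul_mem (M.mul_mem ?_ (H.hM.sh p q hp hq hpq _)) ?_
    · exact (par_rat H _ (hfx t.1)).2 p hp
    · exact (par_rat H _ (hfx t.2.2)).2 q hq
  let E : k₀ × F₀ × k₀ → F := fun t =>
    -((t.2.1 : F) * a + (τ : F) * ((t.2.2 : F₀) : F) * b) / σ a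
  have hSu : ∀ t, (S t : Matrix ι ι F) *ᵥ u = u + lam₀ t • pt + E t • d := fun t => by
    rw [sg_mulVec hf op oq opq, ← had, ← hbd, hpt, hd, smul_smul, smul_sub, smul_smul, smul_smul]
    match_scalars
    · ring
    · simp only [lam₀, E]; field_simp; ring
    · simp only [E]; field_simp
  have hSd : ∀ t, (S t : Matrix ι ι F) *ᵥ d = d := fun t => by
    rw [sg_mulVec hf op oq opq, hdp, hdq]; simp
  have hSp : ∀ t, (S t : Matrix ι ι F) *ᵥ pt = pt := fun t => by
    rw [hpt, mulVec_smul, sg_mulVec hf op oq opq, op, opq]; simp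
  by_cases hinj : ∃ t, t ≠ 0 ∧ lam t = 0
  · obtain ⟨t, ht0, ht⟩ := hinj
    have ht' : lam₀ t = 0 := congrArg Subtype.val ht
    have hSu' := hSu t
    rw [ht', zero_smul, add_zero] at hSu'
    have hE : E t ≠ 0 := by
      intro hE
      simp only [E, neg_div, neg_eq_zero, div_eq_zero_iff, hσa, or_false] at hE
      apply ht0
      have hy : t.2.2 = 0 := by
        by_contra hy
        have hy' : (τ : F) * ((t.2.2 : F₀) : F) ≠ 0 :=
          mul_ne_zero hτ fun e => hy (Subtype.ext (Subtype.ext (by simpa using e)))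
        refine hz ?_
        rw [show b / a = -((t.2.1 : F) / ((τ : F) * ((t.2.2 : F₀) : F))) by
          rw [eq_neg_iff_add_eq_zero, div_add_div _ _ ha hy', div_eq_zero_iff]
          left
          linear_combination hE]
        exact F₀.neg_mem (F₀.div_mem t.2.1.2 (F₀.mul_mem τ.2 (t.2.2 : F₀).2))
      rw [hy] at hE
      simp only [ZeroMemClass.coe_zero, mul_zero, zero_mul, add_zero, mul_eq_zero, ha, or_false] at hE
      have hc : t.2.1 = 0 := Subtype.ext (by simpa using hE)
      have hx : t.1 = 0 := by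
        simp only [lam₀, hy, hc, ZeroMemClass.coe_zero, map_zero, mul_zero, zero_mul, sub_self,
          add_zero, mul_eq_zero, hτ, ha, hσa, or_false, false_or] at ht'
        exact Subtype.ext (Subtype.ext (by simpa using ht'))
      exact Prod.ext hx (Prod.ext hc hy)
    set T := uTv hf u (τ : F)
    have hTu : (T : Matrix ι ι F) *ᵥ u = u := uTv_mulVec_of_orth hf hu _ hu
    have hTd : (T : Matrix ι ι F) *ᵥ d = d := uTv_mulVec_of_orth hf hu _ hdu
    have hTp : (T : Matrix ι ι F) *ᵥ pt = pt + u := by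
      rw [uTv_mulVec hf hu, hpt, hf.smul_left, hpu,
        show (τ : F) * (((τ : F) * σ a)⁻¹ * σ a) = 1 by field_simp, one_smul]
    set g := S t * T * (S t)⁻¹ * T⁻¹ with hg
    have hgd : (g : Matrix ι ι F) *ᵥ d = d := by
      have h1 : ((T⁻¹ : GL ι F) : Matrix ι ι F) *ᵥ d = d := by
        conv_lhs => rw [← hTd]
        rw [gl_inv_mulVec_mulVec]
      have h2 : (((S t)⁻¹ : GL ι F) : Matrix ι ι F) *ᵥ d = d := by
        conv_lhs => rw [← hSd t]
        rw [gl_inv_mulVec_mulVec]
      rw [hg, gl_mulVec_mul, h1, gl_mulVec_mul, h2, gl_mulVec_mul, hTd, hSd]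
    have hgp : (g : Matrix ι ι F) *ᵥ pt = pt + E t • d := by
      have h1 : ((T⁻¹ : GL ι F) : Matrix ι ι F) *ᵥ pt = pt - u := gl_mulVec_injective T (show
          (T : Matrix ι ι F) *ᵥ (((T⁻¹ : GL ι F) : Matrix ι ι F) *ᵥ pt)
            = (T : Matrix ι ι F) *ᵥ (pt - u) by
        rw [gl_mulVec_inv_mulVec, mulVec_sub, hTp, hTu, add_sub_cancel_right])
      have h2 : (((S t)⁻¹ : GL ι F) : Matrix ι ι F) *ᵥ (pt - u) = pt - u + E t • d :=
        gl_mulVec_injective (S t) (show
          (S t : Matrix ι ι F) *ᵥ ((((S t)⁻¹ : GL ι F) : Matrix ι ι F) *ᵥ (pt - u))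
            = (S t : Matrix ι ι F) *ᵥ (pt - u + E t • d) by
          rw [gl_mulVec_inv_mulVec, mulVec_add, mulVec_sub, hSp, mulVec_smul, hSd, hSu']
          module)
      have h3 : (T : Matrix ι ι F) *ᵥ (pt - u + E t • d) = pt + E t • d := by
        rw [mulVec_add, mulVec_sub, hTp, hTu, mulVec_smul, hTd, add_sub_cancel_right]
      rw [hg, gl_mulVec_mul, h1, gl_mulVec_mul, h2, gl_mulVec_mul, h3, mulVec_add,
        hSp, mulVec_smul, hSd]
    refine exists_new_of_moved H hp hq hpq hli ha hz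
      (M.mul_mem (M.mul_mem (M.mul_mem (hSM t) huM) (M.inv_mem (hSM t))) (M.inv_mem huM))
      (ε := (τ : F) * σ a * E t) (mul_ne_zero (mul_ne_zero hτ hσa) hE) hgd ?_
    have e := congrArg (fun v => ((τ : F) * σ a) • v) hgp
    simp only [hpt, mulVec_smul, smul_add, smul_smul, mul_inv_cancel₀ (mul_ne_zero hτ hσa),
      one_smul] at e
    exact e
  push Not at hinj
  have hinj' : Function.Injective lam :=
    (injective_iff_map_eq_zero lam).2 fun t ht => by_contra fun h => hinj t h ht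
  -- cardinalities
  have hq0 := (exists_card_eq R.hB.ne_refl R.hB.involutive).1
  have hk2 := (exists_card_eq hf.ne_refl hf.involutive).1
  have hFr := Module.card_eq_pow_finrank (K := F₀) (V := F)
  set q₀ := Nat.card k₀ with hq₀
  have hq2 : 2 ≤ q₀ := Finite.one_lt_card
  have hkcard : Nat.card k = q₀ ^ Module.finrank F₀ F := by
    rw [hk2, hq0, ← pow_mul, mul_comm, pow_mul] at hFr
    exact Nat.pow_left_injective two_ne_zero hFr
  set V : AddSubgroup k := lam.range with hV
  have hVcard : Nat.card V = q₀ ^ 4 := by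
    have h1 : Nat.card (k₀ × F₀ × k₀) = Nat.card V := Nat.card_congr (Equiv.ofInjective lam hinj')
    rw [← h1, Nat.card_prod, Nat.card_prod, Nat.card_eq_fintype_card (α := F₀), hq0]
    ring
  obtain ⟨l, hl⟩ : ∃ l : k, l ∉ V := by
    by_contra hcon
    push Not at hcon
    have h1 : Nat.card V = Nat.card k := Nat.card_congr (Equiv.subtypeUnivEquiv hcon)
    rw [hVcard, hkcard] at h1
    have h4 := Nat.pow_right_injective hq2 h1
    exact absurd H.hr (by rw [← h4]; decide)
  set t₁ : k₀ × F₀ × k₀ := (1, 0, 0) with ht₁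
  have ht₁0 : t₁ ≠ 0 := fun e => one_ne_zero (α := k₀) (congrArg Prod.fst e)
  have hlam1 : (lam t₁ : F) = (τ : F) * ((τ : F) * (a * σ a)) := by
    change lam₀ t₁ = _
    simp [lam₀, ht₁]
  obtain ⟨g, hgM, hgz, hgd, ⟨e₁, hgu⟩, ⟨e₂, hgp⟩⟩ : slL l ∈ Γ := by
    refine slL_mem_of_large Γ ⟨_, huM, hT⟩ V ?_ (v₀ := lam t₁) ⟨t₁, rfl⟩
      (fun e => hinj t₁ ht₁0 e) ?_ ?_ l
    · rintro _ ⟨t, rfl⟩
      refine ⟨S t, hSM t, fun z _ h2 h3 => by rw [sg_mulVec hf op oq opq, h2, h3]; simp, hSd t, ⟨E t, ?_⟩, ⟨0, ?_⟩⟩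
      · rw [hSu]; simp [slL_val, lam]
      · rw [hSp]; simp [slL_val]
    · rw [hVcard]
      exact lt_of_lt_of_le (by norm_num) (Nat.pow_le_pow_left hq2 4)
    · intro Sf hSf
      let X : Set F := (fun x : k => (x : F)) '' (Sf : Set k)
      have hdiv : ∀ t, (lam₀ t : F) / ((τ : F) * ((τ : F) * (a * σ a))) ∈ X := fun t => by
        refine ⟨_, hSf _ ⟨t, rfl⟩, ?_⟩
        change ((lam t / lam t₁ : k) : F) = _
        rw [Subfield.coe_div, hlam1]
        rfl
      have h0 : ∀ c : F₀, σ (c : F) = c → (c : F) ∈ X := fun c hc => by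
        have hc0 : c ∈ k₀ := show σ₀ c = c from Subtype.ext (by rw [R.coe_σ, hc])
        convert hdiv (⟨c, hc0⟩, 0, 0) using 1
        simp [lam₀, ha, hσa, hτ]
        field_simp
      obtain ⟨x₀, hx₀, hx₀'⟩ : ∃ x₀ ∈ X, x₀ ∉ F₀ := by
        by_contra hcon
        push Not at hcon
        refine hz (mem_of_traces R fun c => ?_)
        have h1 := hcon _ (hdiv (0, τ * σ₀ c, 0))
        have e : lam₀ (0, τ * σ₀ c, 0) / ((τ : F) * ((τ : F) * (a * σ a)))
            = σ ((c : F) * (b / a)) + (c : F) * (b / a) := by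
          simp only [lam₀, Subfield.coe_mul, R.coe_σ, map_mul, στ H, hf.involutive, map_div₀,
            ZeroMemClass.coe_zero, mul_zero, zero_mul]
          field_simp
          ring
        rwa [e, add_comm] at h1
      rw [eq_top_iff]
      intro z _
      obtain ⟨y, hy, e⟩ := fixed_full R H.hr H.hr2 X (by rintro _ ⟨y, -, rfl⟩; exact y.2) h0
        (by rintro _ ⟨y, hy, rfl⟩ _ ⟨y', hy', rfl⟩; exact ⟨y + y', Sf.add_mem hy hy', rfl⟩)
        (by rintro _ ⟨y, hy, rfl⟩ _ ⟨y', hy', rfl⟩; exact ⟨y * y', Sf.mul_mem hy hy', rfl⟩)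
        hx₀ hx₀' (z := (z : F)) z.2
      exact Subtype.ext e ▸ hy
  simp only [slL_val, Matrix.map_apply, Matrix.of_apply, Matrix.cons_val', Matrix.cons_val_zero,
    Matrix.cons_val_one, Matrix.empty_val', Matrix.cons_val_fin_one, Subfield.coe_one,
    Subfield.coe_zero, zero_smul, one_smul, zero_add] at hgu hgp
  have hgp' : (g : Matrix ι ι F) *ᵥ cv p = cv p + ((τ : F) * σ a * e₂) • d := by
    have e := congrArg (fun v => ((τ : F) * σ a) • v) hgp
    simpa only [hpt, mulVec_smul, smul_add, smul_smul, mul_inv_cancel₀ (mul_ne_zero hτ hσa),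
      one_smul] using e
  by_cases he₂ : e₂ = 0
  swap
  · exact exists_new_of_moved H hp hq hpq hli ha hz hgM
      (mul_ne_zero (mul_ne_zero hτ hσa) he₂) hgd hgp'
  have hgpp : (g : Matrix ι ι F) *ᵥ cv p = cv p := by
    rw [hgp', he₂, mul_zero, zero_smul, add_zero]
  have hgqq : (g : Matrix ι ι F) *ᵥ cv q = cv q := by
    have h1 := hgd
    rw [hd, mulVec_sub, mulVec_smul, mulVec_smul, hgpp, sub_right_inj] at h1
    simpa [smul_smul, hσa] using congrArg (fun v => (σ a)⁻¹ • v) h1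
  obtain ⟨x, c, y, hx, hy, hgS⟩ := eq_sg_of_fix H hp hq hpq hli ha hgM hgpp hgqq hgz
  refine exists_new H hp hq hpq hli hx hy (hgS ▸ hgM) ?_
  rintro ⟨hxF, hcF, hyF⟩
  apply hl
  refine ⟨(⟨⟨x, hxF⟩, Subtype.ext (by rw [R.coe_σ]; exact hx)⟩, ⟨c, hcF⟩,
    ⟨⟨y, hyF⟩, Subtype.ext (by rw [R.coe_σ]; exact hy)⟩), Subtype.ext ?_⟩
  have h1 := congrArg (fun v => f v u) hgu
  simp only [hgS, sg_mulVec hf op oq opq, ← had, ← hbd, hf.add_left, hf.smul_left, hu, hpu, hqu,
    hpt, hdu, mul_zero, add_zero, zero_add] at h1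
  field_simp at h1
  change lam₀ _ = (l : F)
  simp only [lam₀]
  linear_combination h1

end CfsgLib.ClassicalMax.UnitFour4
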