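/-
Subfield groups of odd degree are maximal in special unitary groups of dimension at least four.
-/
import Cfsg.Agent.Lib.ClassicalMax.UnitSubFour.Escape
import Cfsg.Agent.Lib.ClassicalMax.UnitFourDecomp.Gen
set_option autoImplicit false
set_option linter.unusedSectionVars false

namespace CfsgLib.ClassicalMax.UnitFour4

open Matrix Cfsg.Geo CfsgLib.ClassicalMax CfsgLib.ClassicalMax.LinSub
open CfsgLib.ClassicalMax.Unit CfsgLib.ClassicalMax.Unit.Sub

variable {ι : Type} [Fintype ι] [DecidableEq ι] {F : Type*} [Field F] [Fintype F] [DecidableEq F]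
  {F₀ : Subfield F} {σ : F ≃+* F} {f : (ι → F) → (ι → F) → F} {σ₀ : F₀ ≃+* F₀}
  {B : (ι → F₀) → (ι → F₀) → F₀}

theorem subfield_maximal_one_ge_four (R : Rat σ f σ₀ B) (hn : 4 ≤ Fintype.card ι)
    (hr : (Module.finrank F₀ F).Prime) (hr2 : 2 < Module.finrank F₀ F) :
    IsMaximalIn (isoOf f ⊓ specialLinear ι F)
      (subfieldSubgroup F₀ (1 : GL ι F) ⊓ (isoOf f ⊓ specialLinear ι F)) := by
  haveI := Fintype.ofFinite F₀
  have hf := R.hf
  obtain ⟨τ, hτ0, hτ⟩ := exists_trace_zero R.hB.ne_refl R.hB.involutive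
  have hτF : σ (τ : F) = -(τ : F) := by rw [← R.coe_σ, hτ]; rfl
  set H := subfieldSubgroup F₀ (1 : GL ι F) ⊓ (isoOf f ⊓ specialLinear ι F)
  have hH : Contains R H := {
    tv := fun v hv c hc => by
      have ov := R.orth hv
      have hcF : σ (c : F) = -(c : F) := by rw [← R.coe_σ, hc]; rfl
      exact ⟨mem_sub_one_iff.2 fun x => ⟨1, x + (c * B x v) • v, by
        rw [one_smul, uTv_mulVec hf ov, cv_add, cv_smul, Subfield.coe_mul, R.coe_B]⟩,
        uTv_mem_isoOf hf ov hcF, uTv_mem_sl hf _ _⟩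
    sh := fun v w hv hw hvw b =>
      ⟨mem_sub_one_iff.2 fun x => ⟨1, x + (b * B x v) • w - (σ₀ b * B x w) • v, by
        rw [one_smul, ush_mulVec hf (R.orth hv) (R.orth hvw), cv_sub, cv_add, cv_smul, cv_smul,
          Subfield.coe_mul, Subfield.coe_mul, R.coe_B, R.coe_B, R.coe_σ]⟩,
        ush_mem_isoOf hf (R.orth hv) (R.orth hw) (R.orth hvw) _, ush_mem_sl hf _ _ _⟩ }
  haveI : IsSimpleOrder (Subalgebra F₀ F) := Subalgebra.isSimpleOrder_of_finrank_prime _ _ hr
  refine CfsgLib.ClassicalMax.isMaximalIn_of inf_le_right ?_ ?_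
  · obtain ⟨θ, hθ, hθσ⟩ : ∃ θ : F, θ ∉ F₀ ∧ σ θ = θ := by
      by_contra hcon
      push Not at hcon
      have hall : ∀ y : F, y ∈ F₀ := by
        intro y
        have hτ' : (τ : F) ≠ 0 := fun e => hτ0 (Subtype.ext (by simpa using e))
        obtain ⟨ω, hω⟩ : ∃ ω : F₀, σ₀ ω ≠ ω := by
          by_contra h
          push Not at h
          exact R.hB.ne_refl (RingEquiv.ext h)
        have hd : (σ (ω : F) - ω) ≠ 0 := by
          rw [← R.coe_σ]
          exact sub_ne_zero.2 fun e => hω (Subtype.ext e)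
        set b := (σ y - y) / (σ (ω : F) - ω) with hb
        have hbσ : σ b = b := by
          rw [hb, map_div₀, map_sub, map_sub, hf.involutive, hf.involutive, ← neg_sub (σ y) y,
            ← neg_sub (σ (ω : F)) (ω : F), neg_div_neg_eq]
        have hbF : b ∈ F₀ := by_contra fun h => hcon b h hbσ
        have haσ : σ (y - ω * b) = y - ω * b := by
          rw [map_sub, map_mul, hbσ, hb]
          field_simp
          ring
        have haF : y - ω * b ∈ F₀ := by_contra fun h => hcon _ h haσ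
        have := F₀.add_mem haF (F₀.mul_mem ω.2 hbF)
        rwa [sub_add_cancel] at this
      have : (⊥ : Subalgebra F₀ F) = ⊤ :=
        eq_top_iff.2 fun y _ => Algebra.mem_bot.2 ⟨⟨y, hall y⟩, rfl⟩
      exact bot_ne_top this
    obtain ⟨p, q, p', q', hp, -, hp', -, -, -, hpp', -, -, -, hli⟩ := exists_frame
      (⟨hH, inf_le_right.trans inf_le_left, hn, hr, hr2, hτ0, hτ⟩ : Hyp R H τ)
    have hyp : B p' p = 1 := by rw [R.hB.herm, hpp', map_one]
    have hc : σ ((τ : F) * θ) = -((τ : F) * θ) := by rw [map_mul, hτF, hθσ]; ring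
    refine ⟨uTv hf (cv p) ((τ : F) * θ), ⟨uTv_mem_isoOf hf (R.orth hp) hc, uTv_mem_sl hf _ _⟩,
      fun h => hθ ?_⟩
    obtain ⟨l, s, hs⟩ := mem_sub_one_iff.1 h.1 p'
    rw [uTv_mulVec hf (R.orth hp), ← R.coe_B, hyp, Subfield.coe_one, mul_one] at hs
    have hli2 : LinearIndependent F₀ ![p', p] := by
      refine LinearIndependent.pair_iff.2 fun a b hab => ?_
      have h1 := congrArg (fun z => B z p) hab
      simp only [R.hB.add_left, R.hB.smul_left, hyp, hp, mul_one, mul_zero, add_zero,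
        zero_left R.hB] at h1
      rw [h1, zero_smul, zero_add, smul_eq_zero] at hab
      exact ⟨h1, hab.resolve_right (hli.ne_zero 0)⟩
    have h2 := coeff_mem hli2 one_ne_zero (a := (1 : F)) (b := (τ : F) * θ)
      ⟨l, s, by rw [one_smul, hs]⟩
    rw [div_one] at h2
    have h3 := F₀.div_mem h2 τ.2
    rwa [mul_div_cancel_left₀ θ (fun e => hτ0 (Subtype.ext (by simpa using e)))] at h3
  intro M hHM hMK g hgM hgH
  have hM : Contains R M :=
    ⟨fun v hv c hc => hHM (hH.tv v hv c hc), fun v w hv hw hvw b => hHM (hH.sh v w hv hw hvw b)⟩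
  have HM : Hyp R M τ := ⟨hM, hMK.trans inf_le_left, hn, hr, hr2, hτ0, hτ⟩
  -- an isotropic rational vector with irrational image
  obtain ⟨v, hv, hvR⟩ : ∃ v : ι → F₀, B v v = 0 ∧ ¬ IsRat F₀ ((g : Matrix ι ι F) *ᵥ cv v) := by
    by_contra hcon
    push Not at hcon
    obtain ⟨p, q, p', q', hp, hq, hp', hq', hpq, hp'q', hpp', hqq', hpq', hqp', -⟩ := exists_frame HM
    have hL := frame_li HM hp hq hpq hp' hq' hp'q' hpp' hqq' hpq' hqp'
    obtain ⟨l, rp, hlp⟩ := hcon p hp
    let W : Submodule F₀ (ι → F₀) :=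
      { carrier := {x | ∃ r : ι → F₀, (g : Matrix ι ι F) *ᵥ cv x = l • cv r}
        zero_mem' := ⟨0, by simp [cv_zero]⟩
        add_mem' := by
          rintro x y ⟨r, hr⟩ ⟨r', hr'⟩
          exact ⟨r + r', by rw [cv_add, mulVec_add, hr, hr', cv_add, smul_add]⟩
        smul_mem' := by
          rintro c x ⟨r, hr⟩
          exact ⟨c • r, by rw [cv_smul, mulVec_smul, hr, cv_smul, smul_comm]⟩ }
    have hpair : ∀ x y : ι → F₀, x ∈ W → B x x = 0 → B y y = 0 → B x y = 0 →
        LinearIndependent F₀ ![x, y] → y ∈ W := by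
      rintro x y ⟨r, hr⟩ hx hy hxy hli
      have hxy' : B (x + y) (x + y) = 0 := by
        simp [R.hB.add_left, Unit.add_right R.hB, hx, hy, hxy, eq_zero_comm R.hB hxy]
      obtain ⟨m, s, hs⟩ := hcon y hy
      obtain ⟨n, t, ht⟩ := hcon (x + y) hxy'
      rw [cv_add, mulVec_add, hr, hs] at ht
      have hl0 : l ≠ 0 := fun e => gl_mulVec_ne_zero g (cv_ne_zero (by simpa using hli.ne_zero 0))
        (by rw [hr, e, zero_smul])
      have hrs : LinearIndependent F₀ ![r, s] := by
        refine LinearIndependent.pair_iff.2 fun c d h => ?_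
        have hm0 : m ≠ 0 := fun e => gl_mulVec_ne_zero g (cv_ne_zero (by simpa using hli.ne_zero 1))
          (by rw [hs, e, zero_smul])
        have h1 : (g : Matrix ι ι F) *ᵥ ((c : F) • (l⁻¹ • cv x) + (d : F) • (m⁻¹ • cv y)) = 0 := by
          simp only [mulVec_add, mulVec_smul, hr, hs, smul_smul, inv_mul_cancel₀ hl0,
            inv_mul_cancel₀ hm0, mul_assoc, mul_one, ← cv_smul, ← cv_add, h, cv_zero]
        have h2 := gl_mulVec_injective g (show (g : Matrix ι ι F) *ᵥ
          ((c : F) • (l⁻¹ • cv x) + (d : F) • (m⁻¹ • cv y)) = (g : Matrix ι ι F) *ᵥ 0 by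
          rw [h1, mulVec_zero])
        have h3 : LinearIndependent F fun i => cv (![x, y] i) := li_cv R hli
        rw [Fintype.linearIndependent_iff] at h3
        have h4 := h3 ![(c : F) * l⁻¹, (d : F) * m⁻¹] (by
          simp only [Fin.sum_univ_two, Matrix.cons_val_zero, Matrix.cons_val_one, ← smul_smul]
          exact h2)
        have e0 := h4 0
        have e1 := h4 1
        simp [hl0, hm0] at e0 e1
        exact ⟨e0, e1⟩
      have hq := coeff_mem hrs hl0 ⟨n, t, ht⟩
      refine ⟨(⟨_, hq⟩ : F₀) • s, ?_⟩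
      rw [hs, cv_smul, smul_smul, mul_div_cancel₀ _ hl0]
    have w0 : p ∈ W := ⟨rp, hlp⟩
    have hp0 : p ≠ 0 := by simpa using hL.ne_zero 0
    have hiso : ∀ w, B w w = 0 → w ∈ W := by
      intro w hw
      by_cases hpw : B p w = 0
      · by_cases hli : LinearIndependent F₀ ![p, w]
        · exact hpair p w w0 hp hw hpw hli
        · rw [LinearIndependent.pair_iff' hp0] at hli
          push Not at hli
          obtain ⟨c, rfl⟩ := hli
          exact W.smul_mem c w0
      obtain ⟨z, hz0, hz, hzp, hzw⟩ := exists_orth_two HM p w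
      have hwp : B w p ≠ 0 := ne_zero_comm R.hB hpw
      have li1 : LinearIndependent F₀ ![p, z] := by
        rw [LinearIndependent.pair_iff' hp0]
        intro c e
        rw [← e, R.hB.smul_left] at hzw
        rcases mul_eq_zero.1 hzw with h | h
        · exact hz0 (by rw [← e, h, zero_smul])
        · exact hpw h
      have li2 : LinearIndependent F₀ ![z, w] := by
        rw [LinearIndependent.pair_iff' hz0]
        intro c e
        rw [← e, R.hB.smul_left, hzp, mul_zero] at hwp
        exact hwp rfl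
      exact hpair z w (hpair p z w0 hp hz (eq_zero_comm R.hB hzp) li1) hz hw hzw li2
    have hall : ∀ x, x ∈ W := fun x => by
      have hle : Submodule.span F₀ {w | w ∈ (⊤ : Submodule F₀ (ι → F₀)) ∧ B w w = 0} ≤ W :=
        Submodule.span_le.2 fun w hw => hiso w hw.2
      rw [isotropic_span_succ R.hB (by rw [finrank_top, Module.finrank_fintype_fun_eq_card]; omega)]
        at hle
      exact hle trivial
    refine hgH ⟨mem_sub_one_iff.2 fun x => ?_, hMK hgM⟩
    obtain ⟨r, hr⟩ := hall x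
    exact ⟨l, r, hr⟩
  have hu : f ((g : Matrix ι ι F) *ᵥ cv v) ((g : Matrix ι ι F) *ᵥ cv v) = 0 := by
    rw [mem_isoOf.1 (hMK hgM).1, R.orth hv]
  have huM : uTv hf ((g : Matrix ι ι F) *ᵥ cv v) (τ : F) ∈ M := by
    rw [← uTv_conj hf (hMK hgM).1 (R.orth hv)]
    exact M.mul_mem (M.mul_mem hgM (hM.tv v hv τ hτ)) (M.inv_mem hgM)
  obtain ⟨x₀, hx₀, hx₀'⟩ := exists_new_of_transvection HM hu hvR huM
  exact iso_inf_sl_le_four hf hn fun w c hw hc => (uSet_all HM hx₀ hx₀' hw).2 c hc

omit [DecidableEq F] in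
theorem subfield_maximal_ge_four {f : (ι → F) → (ι → F) → F} (hf : IsUnitaryForm σ f)
    (hn : 4 ≤ Fintype.card ι) (hr : (Module.finrank F₀ F).Prime) (hro : Odd (Module.finrank F₀ F))
    (P : GL ι F) (hP : IsFormRationalStructure f F₀ 1 P) :
    IsMaximalIn (isoOf f ⊓ specialLinear ι F)
      (subfieldSubgroup F₀ P ⊓ (isoOf f ⊓ specialLinear ι F)) := by
  classical
  haveI := Fintype.ofFinite F₀
  haveI : IsSimpleOrder (Subalgebra F₀ F) := Subalgebra.isSimpleOrder_of_finrank_prime _ _ hr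
  obtain ⟨hcard, hσ⟩ := exists_card_eq hf.ne_refl hf.involutive
  have hmem : ∀ a ∈ F₀, σ a ∈ F₀ := fun a ha => by rw [hσ]; exact pow_mem ha _
  have hr2 : 2 < Module.finrank F₀ F := by
    rcases hr.two_le.lt_or_eq with h | h
    · exact h
    · rw [← h] at hro; exact absurd hro (by decide)
  let σ₀ : F₀ ≃+* F₀ :=
    { toFun := fun a => ⟨σ a, hmem _ a.2⟩
      invFun := fun a => ⟨σ a, hmem _ a.2⟩
      left_inv := fun a => Subtype.ext (hf.involutive _)
      right_inv := fun a => Subtype.ext (hf.involutive _)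
      map_mul' := fun a b => Subtype.ext (by simp)
      map_add' := fun a b => Subtype.ext (by simp) }
  have hσ₀ : ∀ a : F₀, (σ₀ a : F) = σ a := fun a => rfl
  have hne : σ₀ ≠ RingEquiv.refl F₀ := by
    intro e
    have hfix : ∀ a : F₀, σ (a : F) = a := fun a => by rw [← hσ₀, e]; rfl
    let K : Subalgebra F₀ F :=
      { (fixedField σ).toSubring with algebraMap_mem' := fun c => hfix c }
    rcases IsSimpleOrder.eq_bot_or_eq_top K with h | h
    · have heq : (fixedField σ : Set F) = (F₀ : Set F) := by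
        ext a
        refine ⟨fun ha => ?_, fun ha => hfix ⟨a, ha⟩⟩
        have h1 : a ∈ K := ha
        rw [h, Algebra.mem_bot] at h1
        obtain ⟨c, hc⟩ := h1
        rw [← hc]
        exact c.2
      have hq : Nat.card (fixedField σ) = Fintype.card F₀ := by
        rw [← Nat.card_eq_fintype_card]
        exact Nat.card_congr (Equiv.setCongr heq)
      have h2 := Module.card_eq_pow_finrank (K := F₀) (V := F)
      rw [hcard, hq] at h2
      exact absurd (Nat.pow_right_injective Fintype.one_lt_card h2) (by omega)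
    · refine hf.ne_refl (RingEquiv.ext fun a => ?_)
      have : a ∈ K := h ▸ Algebra.mem_top
      exact this
  -- move to the standard rational structure
  set f' : (ι → F) → (ι → F) → F :=
    fun x y => f ((P : Matrix ι ι F) *ᵥ x) ((P : Matrix ι ι F) *ᵥ y)
  have hf' : IsUnitaryForm σ f' := pullback hf P
  have hv : ∀ x y : ι → F₀, f' (cv x) (cv y) ∈ F₀ := fun x y => by
    have := hP _ _ (fun i => (x i).2) (fun i => (y i).2)
    rwa [one_mul] at this
  let B : (ι → F₀) → (ι → F₀) → F₀ := fun x y => ⟨f' (cv x) (cv y), hv x y⟩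
  have hB : IsUnitaryForm σ₀ B := {
    ne_refl := hne
    involutive := fun a => Subtype.ext (hf.involutive _)
    add_left := fun x y v => Subtype.ext (by
      change f' (cv (x + y)) (cv v) = _
      rw [cv_add, hf'.add_left]; rfl)
    smul_left := fun c x v => Subtype.ext (by
      change f' (cv (c • x)) (cv v) = _
      rw [cv_smul, hf'.smul_left]; rfl)
    herm := fun v w => Subtype.ext (hf'.herm _ _)
    nondegenerate := fun v hv0 => by
      suffices h : ∃ x, B x v ≠ 0 by
        obtain ⟨x, hx⟩ := h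
        exact ⟨⟨x, hx⟩, ⟨x, fun e => hx (Subtype.ext
          (eq_zero_comm hf' (congrArg Subtype.val e)))⟩⟩
      by_contra hcon
      push Not at hcon
      obtain ⟨x, hx⟩ := (hf'.nondegenerate _ (cv_ne_zero hv0)).1
      apply hx
      rw [eq_sum_ratVec (F₀ := F₀) 1 x, ← formL_apply hf' (cv v), map_sum]
      refine Finset.sum_eq_zero fun i _ => ?_
      rw [map_smul, formL_apply, ratVec_one, show f' (cv (Pi.single i (1 : F₀))) (cv v) = 0 from
        congrArg Subtype.val (hcon _), smul_zero] }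
  have R : Rat σ f' σ₀ B := ⟨hf', hB, hσ₀, fun x y => rfl⟩
  have h := subfield_maximal_one_ge_four R hn hr hr2
  have hinj : Function.Injective (MulAut.conj P).toMonoidHom := (MulAut.conj P).injective
  have h1 : subfieldSubgroup F₀ P
      = (subfieldSubgroup F₀ (1 : GL ι F)).map (MulAut.conj P).toMonoidHom := by
    rw [subfieldSubgroup, subfieldSubgroup, Subgroup.map_map]
    congr 1
    ext a
    simp
  have h2 : (isoOf f' ⊓ specialLinear ι F).map (MulAut.conj P).toMonoidHom
      = isoOf f ⊓ specialLinear ι F := by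
    ext k
    constructor
    · rintro ⟨a, ⟨ha, hd⟩, rfl⟩
      refine ⟨fun x y => ?_, MonoidHom.mem_ker.2 ?_⟩
      · change f (((P * a * P⁻¹ : GL ι F) : Matrix ι ι F) *ᵥ x)
          (((P * a * P⁻¹ : GL ι F) : Matrix ι ι F) *ᵥ y) = f x y
        simp only [gl_mulVec_mul]
        have := ha (((P⁻¹ : GL ι F) : Matrix ι ι F) *ᵥ x) (((P⁻¹ : GL ι F) : Matrix ι ι F) *ᵥ y)
        simpa [f'] using this
      · rw [MulEquiv.toMonoidHom_eq_coe, MonoidHom.coe_coe, MulAut.conj_apply, map_mul, map_mul,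
          MonoidHom.mem_ker.1 hd, mul_one, ← map_mul, mul_inv_cancel, map_one]
    · rintro ⟨hk, hd⟩
      refine ⟨P⁻¹ * k * P, ⟨fun x y => ?_, MonoidHom.mem_ker.2 ?_⟩, by simp [mul_assoc]⟩
      · change f' (((P⁻¹ * k * P : GL ι F) : Matrix ι ι F) *ᵥ x)
          (((P⁻¹ * k * P : GL ι F) : Matrix ι ι F) *ᵥ y) = f' x y
        simp only [f', gl_mulVec_mul, gl_mulVec_inv_mulVec]
        exact hk _ _
      · rw [map_mul, map_mul, MonoidHom.mem_ker.1 hd, mul_one, ← map_mul, inv_mul_cancel, map_one]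
  rw [h1, ← h2, ← Subgroup.map_inf _ _ _ hinj]
  refine ⟨(Subgroup.map_lt_map_iff_of_injective hinj).2 h.1, fun M hl hu => ?_⟩
  have hM : M = (M.comap (MulAut.conj P).toMonoidHom).map (MulAut.conj P).toMonoidHom :=
    (Subgroup.map_comap_eq_self_of_surjective (MulAut.conj P).surjective _).symm
  rw [hM] at hl hu ⊢
  rw [Subgroup.map_le_map_iff_of_injective hinj] at hl hu
  rcases h.2 _ hl hu with e | e
  · left; rw [e]
  · right; rw [e]

omit [DecidableEq F] in
theorem subfield_maximal_four {f : (ι → F) → (ι → F) → F} (hf : IsUnitaryForm σ f)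
    (hn : Fintype.card ι = 4) (hr : (Module.finrank F₀ F).Prime) (hro : Odd (Module.finrank F₀ F))
    (P : GL ι F) (hP : IsFormRationalStructure f F₀ 1 P) :
    IsMaximalIn (isoOf f ⊓ specialLinear ι F)
      (subfieldSubgroup F₀ P ⊓ (isoOf f ⊓ specialLinear ι F)) :=
  subfield_maximal_ge_four hf hn.ge hr hro P hP

end CfsgLib.ClassicalMax.UnitFour4
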