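/-
The subfield clauses for the four-dimensional special unitary group.
-/
import Cfsg.Agent.Lib.ClassicalMax.UnitSubFour.Max
import Cfsg.Agent.Lib.ClassicalMax.UnitSympSubfieldFour
import Cfsg.Agent.Lib.ClassicalMax.UnitStd
set_option autoImplicit false

namespace CfsgLib.ClassicalMax.UnitFour4

open Matrix Cfsg.Geo CfsgLib.ClassicalMax CfsgLib.ClassicalMax.Unit

variable {F : Type*} [Field F] [Fintype F] {q : ℕ}

/-- Subfield groups of odd prime index are maximal in `SU₄(q)`. -/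
theorem su_four_subfield_odd (hF : Fintype.card F = q ^ 2) (F₀ : Subfield F) (r : ℕ)
    (P : Matrix.GeneralLinearGroup (Fin 4) F) (hr : r.Prime) (hodd : Odd r)
    (hcard : Fintype.card F = Nat.card F₀ ^ r)
    (hP : IsFormRationalStructure (Cfsg.hermForm 4 F q) F₀ 1 P) :
    IsMaximalIn (Cfsg.GU 4 F q ⊓ specialLinear (Fin 4) F)
      (subfieldSubgroup F₀ P ⊓ (Cfsg.GU 4 F q ⊓ specialLinear (Fin 4) F)) := by
  classical
  obtain ⟨σ, hσ, -, hne⟩ := exists_powEquiv hF
  have hf := isUnitaryForm_hermForm hF 4 hσ hne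
  rw [GU_eq_isoOf]
  haveI := Fintype.ofFinite F₀
  have hfr : Module.finrank F₀ F = r := by
    have h := Module.card_eq_pow_finrank (K := F₀) (V := F)
    rw [hcard, Nat.card_eq_fintype_card] at h
    exact (Nat.pow_right_injective Fintype.one_lt_card h).symm
  exact subfield_maximal_four hf (Fintype.card_fin 4) (hfr ▸ hr) (hfr ▸ hodd) P hP

/-- The symplectic subfield group is maximal in `SU₄(q)`. -/
theorem su_four_subfield_symp (hF : Fintype.card F = q ^ 2) (F₀ : Subfield F)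
    (P : Matrix.GeneralLinearGroup (Fin 4) F) (ζ : F) (hcard : Fintype.card F = Nat.card F₀ ^ 2)
    (hζ0 : ζ ≠ 0) (hζ : ζ + ζ ^ q = 0)
    (hP : IsFormRationalStructure (Cfsg.hermForm 4 F q) F₀ ζ P)
    (halt : ∀ u : Fin 4 → F, (∀ i, u i ∈ F₀) → (Cfsg.hermForm 4 F q)
      (Matrix.mulVec (P : Matrix (Fin 4) (Fin 4) F) u)
      (Matrix.mulVec (P : Matrix (Fin 4) (Fin 4) F) u) = 0) :
    IsMaximalIn (Cfsg.GU 4 F q ⊓ specialLinear (Fin 4) F)
      (subfieldSubgroup F₀ P ⊓ (Cfsg.GU 4 F q ⊓ specialLinear (Fin 4) F)) := by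
  classical
  obtain ⟨σ, hσ, -, hne⟩ := exists_powEquiv hF
  have hf := isUnitaryForm_hermForm hF 4 hσ hne
  rw [GU_eq_isoOf]
  have hq : Nat.card F₀ = q := Nat.pow_left_injective two_ne_zero (hcard.symm.trans hF)
  haveI := Fintype.ofFinite F₀
  have hF₀ : ∀ a ∈ F₀, σ a = a := fun a ha => by
    have h := congrArg Subtype.val (FiniteField.pow_card (⟨a, ha⟩ : F₀))
    rw [← Nat.card_eq_fintype_card, hq] at h
    rw [hσ]
    simpa using h
  exact symp_subfield_maximal_of_gen hf (by simp) (fun H hH => iso_inf_sl_le_four hf (by simp) hH)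
    F₀ hcard hF₀ P ζ hζ0 (by rw [hσ]; linear_combination hζ) hP halt

end CfsgLib.ClassicalMax.UnitFour4
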